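import Groth.Agent.QCart.Quasi
import Groth.Agent.AlgSpDec.EtSite
import Mathlib.AlgebraicGeometry.Morphisms.Flat

/-!
# The affine objects of the small etale site of a space
-/

universe u

set_option autoImplicit false
set_option linter.style.haveILetI false
set_option backward.isDefEq.respectTransparency false
set_option backward.isDefEq.respectTransparency.types false

open CategoryTheory CategoryTheory.Limits AlgebraicGeometry Opposite TensorProduct AlgSp

namespace Groth.Agent.QCart

/-- Lifting the universe of a ring homomorphism. -/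
abbrev upHom {A B : CommRingCat.{u}} (f : A ⟶ B) :
    CommRingCat.of (ULift.{u + 1} A) ⟶ CommRingCat.of (ULift.{u + 1} B) :=
  CommRingCat.ofHom (ULift.ringEquiv.symm.toRingHom.comp (f.hom.comp ULift.ringEquiv.toRingHom))

/-- Lifting the universe preserves pushouts of rings. -/
theorem isPushout_upHom {A Z Z' P : CommRingCat.{u}} {f : A ⟶ Z} {g : A ⟶ Z'} {h : Z ⟶ P} {i : Z' ⟶ P}
    (sq : CategoryTheory.IsPushout f g h i) :
    CategoryTheory.IsPushout (upHom f) (upHom g) (upHom h) (upHom i) := by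
  algebraize [f.hom, g.hom, h.hom, i.hom, h.hom.comp f.hom]
  haveI : IsScalarTower A Z' P := IsScalarTower.of_algebraMap_eq' (congrArg CommRingCat.Hom.hom sq.w)
  haveI hP : Algebra.IsPushout A Z Z' P := CommRingCat.isPushout_iff_isPushout.1 sq
  have w : upHom f ≫ upHom h = upHom g ≫ upHom i := by
    ext a
    exact congrArg (fun k => CommRingCat.Hom.hom k a.down) sq.w
  refine ⟨⟨w⟩, ⟨PushoutCocone.IsColimit.mk w (fun s => ?_) (fun s => ?_) (fun s => ?_) (fun s m h₁ h₂ => ?_)⟩⟩
  · letI : Algebra A s.pt := ((upHom f ≫ s.inl).hom.comp ULift.ringEquiv.symm.toRingHom).toAlgebra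
    let a : Z →ₐ[A] s.pt := ⟨s.inl.hom.comp ULift.ringEquiv.symm.toRingHom, fun _ => rfl⟩
    let b : Z' →ₐ[A] s.pt := ⟨s.inr.hom.comp ULift.ringEquiv.symm.toRingHom, fun x =>
      (congrArg (fun k => CommRingCat.Hom.hom k (ULift.up x)) s.condition).symm⟩
    exact CommRingCat.ofHom ((Algebra.pushoutDesc P a b fun x y => mul_comm _ _).toRingHom.comp
      ULift.ringEquiv.toRingHom)
  · letI : Algebra A s.pt := ((upHom f ≫ s.inl).hom.comp ULift.ringEquiv.symm.toRingHom).toAlgebra
    ext x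
    exact Algebra.pushoutDesc_left (S' := (P : Type u)) _ _ (fun _ _ => mul_comm _ _) x.down
  · letI : Algebra A s.pt := ((upHom f ≫ s.inl).hom.comp ULift.ringEquiv.symm.toRingHom).toAlgebra
    ext x
    exact Algebra.pushoutDesc_right (S' := (P : Type u)) _ _ (fun _ _ => mul_comm _ _) x.down
  · letI : Algebra A s.pt := ((upHom f ≫ s.inl).hom.comp ULift.ringEquiv.symm.toRingHom).toAlgebra
    let m' : P →ₐ[A] s.pt := ⟨m.hom.comp ULift.ringEquiv.symm.toRingHom, fun x =>
      congrArg (fun k => CommRingCat.Hom.hom k (ULift.up ((f.hom : A →+* Z) x))) h₁⟩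
    let a : Z →ₐ[A] s.pt := ⟨s.inl.hom.comp ULift.ringEquiv.symm.toRingHom, fun _ => rfl⟩
    let b : Z' →ₐ[A] s.pt := ⟨s.inr.hom.comp ULift.ringEquiv.symm.toRingHom, fun x =>
      (congrArg (fun k => CommRingCat.Hom.hom k (ULift.up x)) s.condition).symm⟩
    have key : m' = Algebra.pushoutDesc P a b fun x y => mul_comm _ _ := by
      refine Algebra.IsPushout.algHom_ext (S := Z) (R' := Z') (P : Type u) ?_ ?_
      · rw [Algebra.lift_algHom_comp_right]
        exact AlgHom.ext fun x => congrArg (fun k => CommRingCat.Hom.hom k (ULift.up x)) h₂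
      · rw [Algebra.lift_algHom_comp_left]
        exact AlgHom.ext fun x => congrArg (fun k => CommRingCat.Hom.hom k (ULift.up x)) h₁
    ext x
    exact AlgHom.congr_fun key x.down

/-- A point of the target in the image of a flat algebra detects nonvanishing. -/
theorem exists_prime_of_ne_zero {A : Type*} [CommRing A] {N : Type*} [AddCommGroup N] [Module A N] {x : N}
    (hx : x ≠ 0) : ∃ p : PrimeSpectrum A, LinearMap.ker (LinearMap.toSpanSingleton A N x) ≤ p.asIdeal := by
  obtain ⟨m, hm, hle⟩ := Ideal.exists_le_maximal (LinearMap.ker (LinearMap.toSpanSingleton A N x)) fun h => hx (by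
    have : (1 : A) ∈ LinearMap.ker (LinearMap.toSpanSingleton A N x) := h ▸ Submodule.mem_top
    simpa using this)
  exact ⟨⟨m, hm.isPrime⟩, hle⟩

theorem tmul_ne_zero_of_prime {A B : Type*} [CommRing A] [CommRing B] [Algebra A B] [Module.Flat A B]
    {N : Type*} [AddCommGroup N] [Module A N] {x : N} (q : Ideal B) [q.IsPrime]
    (hq : LinearMap.ker (LinearMap.toSpanSingleton A N x) ≤ q.comap (algebraMap A B)) :
    (1 : B) ⊗ₜ[A] x ≠ 0 := fun h0 => by
  let I : Ideal A := LinearMap.ker (LinearMap.toSpanSingleton A N x)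
  let j : (A ⧸ I) →ₗ[A] N := I.liftQ (LinearMap.toSpanSingleton A N x) le_rfl
  have hj : Function.Injective j := LinearMap.ker_eq_bot.1 (Submodule.ker_liftQ_eq_bot _ _ _ le_rfl)
  let r : (A ⧸ I) →ₗ[A] (B ⧸ q) := I.liftQ (Algebra.linearMap A (B ⧸ q)) fun a ha => by
    rw [LinearMap.mem_ker, Algebra.linearMap_apply, IsScalarTower.algebraMap_apply A B (B ⧸ q)]
    exact Ideal.Quotient.eq_zero_iff_mem.2 (hq ha)
  have h1 : j.lTensor B ((1 : B) ⊗ₜ[A] Submodule.Quotient.mk (p := I) (1 : A)) = 0 := by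
    rw [LinearMap.lTensor_tmul]
    refine Eq.trans (congrArg ((1 : B) ⊗ₜ[A] ·) ?_) h0
    exact LinearMap.toSpanSingleton_apply_one A N x
  have h2 := Module.Flat.lTensor_preserves_injective_linearMap (M := B) j hj (h1.trans (map_zero _).symm)
  have h3 := congrArg (r.liftBaseChange B) h2
  rw [LinearMap.liftBaseChange_tmul, map_zero, one_smul] at h3
  have h4 : algebraMap A (B ⧸ q) 1 = 0 := h3
  rw [map_one, ← map_one (Ideal.Quotient.mk q), Ideal.Quotient.eq_zero_iff_mem] at h4
  exact Ideal.IsPrime.ne_top inferInstance ((q.eq_top_iff_one).2 h4)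

theorem exists_comap_appTop_eq {X Y : Scheme.{u}} [IsAffine X] [IsAffine Y] (f : X ⟶ Y)
    (p : PrimeSpectrum Γ(Y, ⊤)) (x : X) (hx : f x = Y.isoSpec.inv p) :
    PrimeSpectrum.comap f.appTop.hom (X.isoSpec.hom x) = p := by
  have h := congrArg (fun k : X ⟶ Spec Γ(Y, ⊤) => k x) (Scheme.isoSpec_hom_naturality f)
  simp only [Scheme.Hom.comp_apply] at h
  refine Eq.trans h ?_
  rw [hx, ← Scheme.Hom.comp_apply, Iso.inv_hom_id]
  rfl

variable {S : Scheme.{u}} (X : Sp S)

/-- The objects of the small etale site with affine source. -/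
abbrev IsAff (E : EtOver X) : Prop := IsAffine E.obj.left.left

theorem algebraMap_flat {E E' : EtOver X} (hE : IsAff X E) (hE' : IsAff X E') (g : E' ⟶ E) :
    Module.Flat ((OEt X).obj.obj (op E)) (Rg (OEt X).obj g) := by
  haveI : IsAffine E.obj.left.left := hE
  haveI : IsAffine E'.obj.left.left := hE'
  haveI : Etale g.hom.left.left := EtOver.etale_left g
  exact RingHom.Flat.comp (RingHom.Flat.comp (RingHom.Flat.of_bijective ULift.ringEquiv.bijective)
    g.hom.left.left.flat_appTop) (RingHom.Flat.of_bijective ULift.ringEquiv.symm.bijective)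

theorem exists_pb {E Z Z' : EtOver X} (hE : IsAff X E) (hZ : IsAff X Z) (hZ' : IsAff X Z') (g : Z ⟶ E)
    (g' : Z' ⟶ E) : ∃ (P : EtOver X) (p : P ⟶ Z) (q : P ⟶ Z'), IsAff X P ∧ IsPullback p q g g' ∧
      IsRingSq (O := (OEt X).obj) g g' p q := by
  haveI : IsAffine E.obj.left.left := hE
  haveI : IsAffine Z.obj.left.left := hZ
  haveI : IsAffine Z'.obj.left.left := hZ'
  have hpb := EtOver.isPullback g g'
  have hS : IsPullback (EtOver.pullbackFst g g').hom.left.left (EtOver.pullbackSnd g g').hom.left.left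
      g.hom.left.left g'.hom.left.left :=
    (IsPullback.of_hasPullback g.hom.left g'.hom.left).map (CategoryTheory.Over.forget S)
  refine ⟨_, _, _, IsAffine.of_isPullback hS, hpb, ⟨hpb.w, ?_⟩⟩
  have hpo := isPushout_appTop_of_isPullback hS
  exact isPushout_upHom hpo

theorem exists_cover {E : EtOver X} (hE : IsAff X E) (Sv : Sieve E) (hS : Sv ∈ etTop X E) :
    ∃ c : Cover (etTop X) (OEt X).obj (IsAff X) E, ∀ i, Sv (c.m i) := by
  classical
  haveI : IsAffine E.obj.left.left := hE
  obtain ⟨R, hR, hRS⟩ := (Precoverage.mem_toGrothendieck_iff_of_isStableUnderComposition).1 hS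
  obtain ⟨ι, Y, f, rfl⟩ := R.exists_eq_ofArrows
  have hcov := (ofArrows_mem_etPre_iff Y f).1 hR
  choose i y hy using hcov
  choose W hW hyW _hle using fun x => exists_isAffineOpen_mem_and_subset (U := (⊤ : (Y (i x)).obj.left.left.Opens)) (x := y x) trivial
  let Z : ↥E.obj.left.left → EtOver X := fun x => Groth.Agent.AlgSpDec.etOpen (Y (i x)) (W x)
  let m : ∀ x, Z x ⟶ E := fun x => Groth.Agent.AlgSpDec.etOpenι (Y (i x)) (W x) ≫ f (i x)
  have hopen : ∀ x, IsOpen (Set.range (m x).hom.left.left) := fun x => by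
    haveI := EtOver.etale_left (m x)
    exact (m x).hom.left.left.isOpenMap.isOpen_range
  have hmem : ∀ x, x ∈ Set.range (m x).hom.left.left := fun x => ⟨(⟨y x, hyW x⟩ : (W x).toScheme), hy x⟩
  obtain ⟨t, ht⟩ := isCompact_univ.elim_finite_subcover _ hopen fun x _ => Set.mem_iUnion.2 ⟨x, hmem x⟩
  let e := t.equivFin.symm
  have hsurj : ∀ x, ∃ k, x ∈ Set.range (m (e k)).hom.left.left := fun x => by
    obtain ⟨x₀, hx₀, hx⟩ := Set.mem_iUnion₂.1 (ht (Set.mem_univ x))
    exact ⟨e.symm ⟨x₀, hx₀⟩, by rwa [e.apply_symm_apply]⟩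
  refine ⟨{ n := t.card, Z := fun k => Z (e k), m := fun k => m (e k), aff_Z := fun k => hW (e k),
            mem := AlgSp.ofArrows_mem_etTop _ _ hsurj, ff := fun N _ _ x hx => ?_ }, fun k =>
    Sv.downward_closed (hRS _ _ (Presieve.ofArrows.mk _)) _⟩
  by_contra hne
  obtain ⟨p, hp⟩ := exists_prime_of_ne_zero (A := (OEt X).obj.obj (op E)) hne
  let up := (ULift.ringEquiv.{u, u + 1} (R := Γ(E.obj.left.left, ⊤))).symm
  let p₀ : PrimeSpectrum Γ(E.obj.left.left, ⊤) := PrimeSpectrum.comap up.toRingHom p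
  obtain ⟨k, z, hz⟩ := hsurj (E.obj.left.left.isoSpec.inv p₀)
  haveI : IsAffine (Z (e k)).obj.left.left := hW (e k)
  have hq := exists_comap_appTop_eq (m (e k)).hom.left.left p₀ z hz
  let q : PrimeSpectrum Γ((Z (e k)).obj.left.left, ⊤) := (Z (e k)).obj.left.left.isoSpec.hom z
  let q' : PrimeSpectrum ((OEt X).obj.obj (op (Z (e k)))) :=
    PrimeSpectrum.comap (ULift.ringEquiv.{u, u + 1}).toRingHom q
  have hZk : IsAff X (Z (e k)) := hW (e k)
  haveI := algebraMap_flat X hE hZk (m (e k))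
  let q₂ : Ideal (Rg (OEt X).obj (m (e k))) := q'.asIdeal
  haveI : q₂.IsPrime := q'.isPrime
  refine tmul_ne_zero_of_prime (B := Rg (OEt X).obj (m (e k))) q₂ ?_ (hx k)
  refine hp.trans (le_of_eq ?_)
  ext a
  have h := SetLike.ext_iff.1 (congrArg PrimeSpectrum.asIdeal hq) (ULift.down a)
  exact h.symm

theorem dense_isAff (E : EtOver X) : Sieve.generate (fun W (_ : W ⟶ E) => IsAff X W) ∈ etTop X E := by
  choose W hW hxW _hle using fun x : ↥E.obj.left.left => exists_isAffineOpen_mem_and_subset (U := (⊤ : E.obj.left.left.Opens)) (x := x) trivial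
  refine (etTop X).superset_covering ?_ (AlgSp.ofArrows_mem_etTop
    (fun x => Groth.Agent.AlgSpDec.etOpen E (W x)) (fun x => Groth.Agent.AlgSpDec.etOpenι E (W x))
    fun x => ⟨x, (⟨x, hxW x⟩ : (W x).toScheme), rfl⟩)
  refine (Sieve.generate_le_iff _ _).2 ?_
  rintro V g ⟨x⟩
  exact Sieve.le_generate _ _ _ (hW x)

/-- The affine objects of the small etale site. -/
noncomputable def etBasis : AffBasis (etTop X) (OEt X).obj where
  aff := IsAff X
  flat hE hE' g := algebraMap_flat X hE hE' g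
  dense := dense_isAff X
  pb hE hZ hZ' g g' := exists_pb X hE hZ hZ' g g'
  cover hE Sv hS := exists_cover X hE Sv hS

/-- Quasi-coherent means cartesian on affine objects. -/
theorem isQuasicoherent_iff (M : ModEt X) :
    M.IsQuasicoherent ↔ (etBasis X).IsCart (psh (R := OEt X) M) :=
  AffBasis.isQuasicoherent_iff_isCart (R := OEt X) (etBasis X)

end Groth.Agent.QCart
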