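import Groth.Agent.QCart.Sheafify
import Mathlib.Algebra.Category.ModuleCat.Presheaf.Colimits
import Mathlib.Algebra.Category.ModuleCat.Presheaf.Sheafification
import Mathlib.Algebra.Category.ModuleCat.Sheaf.Abelian
import Mathlib.Algebra.Category.ModuleCat.Sheaf.Colimits

/-!
# Colimits of cartesian modules
-/

universe w v₁ u₁ v₂ u₂

set_option autoImplicit false
set_option linter.style.haveILetI false
set_option backward.isDefEq.respectTransparency false
set_option backward.isDefEq.respectTransparency.types false
set_option linter.unusedSectionVars false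

open CategoryTheory CategoryTheory.Limits Opposite TensorProduct

namespace Groth.Agent.QCart

variable {C : Type u₁} [Category.{v₁} C] {J : GrothendieckTopology C}
  {K : Type u₂} [Category.{v₂} K] [HasColimitsOfShape K AddCommGrpCat.{w}]

section Presheaf

variable {O : Cᵒᵖ ⥤ CommRingCat.{w}} {b : AffBasis J O}

theorem cart_colimit {E Z : C} (g : Z ⟶ E) (D : K ⥤ PresheafOfModules.{w} (RR O)) (c : Cocone D)
    (hc : IsColimit c) (h : ∀ k, Cart g (D.obj k)) : Cart g c.pt := by
  rw [cart_iff_isBaseChange]
  refine IsBaseChange.of_lift_unique _ fun Q inst iA iB tower γ => ?_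
  letI : AddCommGroup Q := Module.addCommMonoidToAddCommGroup (Rg O g)
  have hE := isColimitOfPreserves (PresheafOfModules.evaluation (RR O) (op E)) hc
  have hZ := isColimitOfPreserves (PresheafOfModules.evaluation (RR O) (op Z)) hc
  letI : Module ((RR O).obj (op Z)) Q := iB
  letI : Module ((RR O).obj (op E)) Q := iA
  choose L hL hLu using fun k => (IsBaseChange.iff_lift_unique.1 ((cart_iff_isBaseChange g _).1 (h k))) Q
    (γ.comp (appO (c.ι.app k) E))
  let QZ : ModuleCat ((RR O).obj (op Z)) := ModuleCat.of _ Q
  let s : Cocone (D ⋙ PresheafOfModules.evaluation (RR O) (op Z)) :=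
    { pt := QZ
      ι :=
        { app := fun k => ModuleCat.ofHom (Y := Q) (L k : (D.obj k).obj (op Z) →ₗ[(RR O).obj (op Z)] Q)
          naturality := fun k k' f => by
            refine ModuleCat.hom_ext ?_
            show ((L k').comp (appSec (D.map f) g) : Sec (D.obj k) g →ₗ[Rg O g] Q) = L k
            refine hLu k _ (LinearMap.ext fun x => ?_)
            show L k' (toSec g _ ((D.map f).app (op Z) (sres (D.obj k) g x))) = γ ((c.ι.app k).app (op E) x)
            rw [app_sres]
            exact (LinearMap.congr_fun (hL k') _).trans (congrArg γ (LinearMap.congr_fun (congrArg ModuleCat.Hom.hom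
              (congrArg (fun t => t.app (op E)) (c.w f))) x)) } }
  let G : Sec c.pt g →ₗ[Rg O g] Q := (hZ.desc s).hom
  refine ⟨G, LinearMap.ext fun x => ?_, fun G' hG' => ?_⟩
  · have he : (G.restrictScalars (O.obj (op E))).comp (res g c.pt) = γ := by
      let QE : ModuleCat ((RR O).obj (op E)) := ModuleCat.of _ Q
      have key : (ModuleCat.ofHom (Y := Q) ((G.restrictScalars (O.obj (op E))).comp (res g c.pt) :
          c.pt.obj (op E) →ₗ[(RR O).obj (op E)] Q) : c.pt.obj (op E) ⟶ QE) =
          ModuleCat.ofHom (Y := Q) (γ : c.pt.obj (op E) →ₗ[(RR O).obj (op E)] Q) := by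
        refine hE.hom_ext fun k => ModuleCat.hom_ext (LinearMap.ext fun x => ?_)
        show G (toSec g _ (sres c.pt g ((c.ι.app k).app (op E) x))) = γ ((c.ι.app k).app (op E) x)
        refine (congrArg (fun y : c.pt.obj (op Z) => G (toSec g _ y)) (app_sres (c.ι.app k) g x)).symm.trans ?_
        refine Eq.trans ?_ (LinearMap.congr_fun (hL k) x)
        exact LinearMap.congr_fun (congrArg ModuleCat.Hom.hom (hZ.fac s k)) (res g (D.obj k) x)
      exact congrArg ModuleCat.Hom.hom key
    exact LinearMap.congr_fun he x
  · have key : (ModuleCat.ofHom (Y := Q) (G' : c.pt.obj (op Z) →ₗ[(RR O).obj (op Z)] Q) : c.pt.obj (op Z) ⟶ QZ) =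
        hZ.desc s := by
      refine hZ.uniq s _ fun k => ModuleCat.hom_ext ?_
      refine hLu k (G'.comp (appSec (c.ι.app k) g)) (LinearMap.ext fun x => ?_)
      show G' (toSec g _ ((c.ι.app k).app (op Z) (sres (D.obj k) g x))) = γ ((c.ι.app k).app (op E) x)
      rw [app_sres]
      exact LinearMap.congr_fun hG' _
    exact congrArg ModuleCat.Hom.hom key

theorem AffBasis.isCart_colimit (D : K ⥤ PresheafOfModules.{w} (RR O)) (c : Cocone D)
    (hc : IsColimit c) (h : ∀ k, b.IsCart (D.obj k)) : b.IsCart c.pt :=
  fun _ _ hE hE' g => cart_colimit g D c hc fun k => h k hE hE' g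

end Presheaf

variable [J.HasSheafCompose (forget₂ CommRingCat.{w} RingCat.{w})]
  [J.HasSheafCompose (CategoryTheory.forget AddCommGrpCat.{w})]
  [HasWeakSheafify J AddCommGrpCat.{w}] [J.WEqualsLocallyBijective AddCommGrpCat.{w}]
  {R : Sheaf J CommRingCat.{w}} {b : AffBasis J R.obj}

/-- The canonical map to the sheafification. -/
noncomputable abbrev toShf (P : PresheafOfModules.{w} (RR R.obj)) :
    P ⟶ psh ((PresheafOfModules.sheafification (R := RS R) (𝟙 (RS R).obj)).obj P) :=
  (PresheafOfModules.sheafificationAdjunction (R := RS R) (𝟙 (RS R).obj)).unit.app P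

instance isLocallyInjective_toShf (P : PresheafOfModules.{w} (RR R.obj)) :
    Presheaf.IsLocallyInjective J ((PresheafOfModules.toPresheaf _).map (toShf P)) :=
  inferInstanceAs (Presheaf.IsLocallyInjective J (CategoryTheory.toSheafify J P.presheaf))

instance isLocallySurjective_toShf (P : PresheafOfModules.{w} (RR R.obj)) :
    Presheaf.IsLocallySurjective J ((PresheafOfModules.toPresheaf _).map (toShf P)) :=
  inferInstanceAs (Presheaf.IsLocallySurjective J (CategoryTheory.toSheafify J P.presheaf))

theorem AffBasis.IsCart.sheafification {P : PresheafOfModules.{w} (RR R.obj)} (hP : b.IsCart P) :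
    b.IsCart (psh ((PresheafOfModules.sheafification (R := RS R) (𝟙 (RS R).obj)).obj P)) :=
  hP.of_locallyBijective (toShf P)

theorem AffBasis.IsCart.of_iso {M N : SheafOfModules.{w} (RS R)} (hM : b.IsCart (psh M)) (e : M ≅ N) :
    b.IsCart (psh N) :=
  AffBasis.IsCart.of_bijective (P := psh M) (Q := psh N) e.hom.val hM fun E _ => by
    have : IsIso (e.hom.val.app (op E)) :=
      inferInstanceAs (IsIso ((SheafOfModules.evaluation (RS R) (op E)).map e.hom))
    exact ConcreteCategory.bijective_of_isIso (e.hom.val.app (op E))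

/-- A colimit of cartesian sheaves of modules is cartesian. -/
theorem AffBasis.isCart_colimit_sheaf (D : K ⥤ SheafOfModules.{w} (RS R)) (c : Cocone D)
    (hc : IsColimit c) (h : ∀ k, b.IsCart (psh (D.obj k))) : b.IsCart (psh c.pt) := by
  let adj := PresheafOfModules.sheafificationAdjunction (R := RS R) (𝟙 (RS R).obj)
  let D' : K ⥤ PresheafOfModules.{w} (RS R).obj := D ⋙ SheafOfModules.forget _
  let cP := colimit.cocone D'
  let hcP := colimit.isColimit D'
  haveI := adj.leftAdjoint_preservesColimits.{v₂, u₂}
  let hs := isColimitOfPreserves (PresheafOfModules.sheafification (R := RS R) (𝟙 (RS R).obj)) hcP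
  let e : D' ⋙ PresheafOfModules.sheafification (R := RS R) (𝟙 (RS R).obj) ≅ D :=
    Functor.isoWhiskerLeft D (asIso adj.counit)
  exact (b.isCart_colimit D' cP hcP h).sheafification.of_iso (hs.coconePointsIsoOfNatIso hc e)

end Groth.Agent.QCart
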