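import Groth.Agent.QCart.PullQC
import Groth.Agent.AlgSpDec.EtSite
import Groth.Prelude.Def_AlgSpOX2
import Mathlib.CategoryTheory.Limits.Constructions.LimitsOfProductsAndEqualizers

/-!
# Pullback of quasi-coherent modules along representable morphisms of spaces
-/

universe u

set_option autoImplicit false
set_option linter.style.haveILetI false
set_option backward.isDefEq.respectTransparency false
set_option backward.isDefEq.respectTransparency.types false

open CategoryTheory CategoryTheory.Limits AlgebraicGeometry Opposite AlgSp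

namespace Groth.Agent.QCart

variable {S : Scheme.{u}} {X Y : Sp S} {f : X ⟶ Y} (hf : Representable f)

theorem map_snd_hom {T : EtOver X} {E : EtOver Y} (t : T ⟶ EtOver.bcObj hf E) :
    (yon S).map (t.hom.left ≫ hf.snd E.obj.hom) ≫ E.obj.hom = T.obj.hom ≫ f := by
  rw [Functor.map_comp, Category.assoc, ← hf.w, ← Category.assoc]
  exact congrArg (· ≫ f) (EtOver.w t)

/-- The map of schemes into a product given by maps into base changes. -/
noncomputable def bcProdAux {T : EtOver X} {E₁ E₂ : EtOver Y} (t₁ : T ⟶ EtOver.bcObj hf E₁)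
    (t₂ : T ⟶ EtOver.bcObj hf E₂) : T.obj.left ⟶ (EtOver.prodObj E₁ E₂).obj.left :=
  E₂.property.1.lift' (t₂.hom.left ≫ hf.snd E₂.obj.hom) (t₁.hom.left ≫ hf.snd E₁.obj.hom)
    ((map_snd_hom hf t₂).trans (map_snd_hom hf t₁).symm)

theorem bcProdAux_fst {T : EtOver X} {E₁ E₂ : EtOver Y} (t₁ : T ⟶ EtOver.bcObj hf E₁)
    (t₂ : T ⟶ EtOver.bcObj hf E₂) :
    bcProdAux hf t₁ t₂ ≫ (EtOver.prodFst E₁ E₂).hom.left = t₁.hom.left ≫ hf.snd E₁.obj.hom :=
  Functor.relativelyRepresentable.lift'_snd _ _ _ _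

theorem bcProdAux_snd {T : EtOver X} {E₁ E₂ : EtOver Y} (t₁ : T ⟶ EtOver.bcObj hf E₁)
    (t₂ : T ⟶ EtOver.bcObj hf E₂) :
    bcProdAux hf t₁ t₂ ≫ (EtOver.prodSnd E₁ E₂).hom.left = t₂.hom.left ≫ hf.snd E₂.obj.hom :=
  Functor.relativelyRepresentable.lift'_fst _ _ _ _

theorem bcProdAux_w {T : EtOver X} {E₁ E₂ : EtOver Y} (t₁ : T ⟶ EtOver.bcObj hf E₁)
    (t₂ : T ⟶ EtOver.bcObj hf E₂) :
    T.obj.hom ≫ f = (yon S).map (bcProdAux hf t₁ t₂) ≫ (EtOver.prodObj E₁ E₂).obj.hom := by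
  rw [← EtOver.w (EtOver.prodFst E₁ E₂), ← Category.assoc, ← Functor.map_comp, bcProdAux_fst]
  exact (map_snd_hom hf t₁).symm

theorem bcMap_left_snd {T : EtOver X} {E E' : EtOver Y} (m : T ⟶ EtOver.bcObj hf E) (g : E ⟶ E') :
    (m ≫ EtOver.bcMap hf g).hom.left ≫ hf.snd E'.obj.hom = (m.hom.left ≫ hf.snd E.obj.hom) ≫ g.hom.left := by
  show (m.hom.left ≫ (EtOver.bcMap hf g).hom.left) ≫ _ = _
  rw [Category.assoc, EtOver.bcMap_snd, Category.assoc]

theorem ext_bcObj {T : EtOver X} {E : EtOver Y} {a a' : T ⟶ EtOver.bcObj hf E}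
    (h : a.hom.left ≫ hf.snd E.obj.hom = a'.hom.left ≫ hf.snd E.obj.hom) : a = a' :=
  EtOver.hom_ext _ _ (hf.hom_ext ((EtOver.w a).trans (EtOver.w a').symm) h)

theorem ext_prodObj {T : Over S} {E₁ E₂ : EtOver Y} {a a' : T ⟶ (EtOver.prodObj E₁ E₂).obj.left}
    (h₁ : a ≫ (EtOver.prodFst E₁ E₂).hom.left = a' ≫ (EtOver.prodFst E₁ E₂).hom.left)
    (h₂ : a ≫ (EtOver.prodSnd E₁ E₂).hom.left = a' ≫ (EtOver.prodSnd E₁ E₂).hom.left) : a = a' :=
  E₂.property.1.hom_ext' h₂ h₁

/-- The lift into the base change of a product. -/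
noncomputable def bcProdLift {T : EtOver X} {E₁ E₂ : EtOver Y} (t₁ : T ⟶ EtOver.bcObj hf E₁)
    (t₂ : T ⟶ EtOver.bcObj hf E₂) : T ⟶ EtOver.bcObj hf (EtOver.prodObj E₁ E₂) :=
  EtOver.homMk (hf.lift T.obj.hom (bcProdAux hf t₁ t₂) (bcProdAux_w hf t₁ t₂)) (hf.lift_fst _ _ _)

theorem bcProdLift_snd {T : EtOver X} {E₁ E₂ : EtOver Y} (t₁ : T ⟶ EtOver.bcObj hf E₁)
    (t₂ : T ⟶ EtOver.bcObj hf E₂) :
    (bcProdLift hf t₁ t₂).hom.left ≫ hf.snd (EtOver.prodObj E₁ E₂).obj.hom = bcProdAux hf t₁ t₂ :=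
  hf.lift_snd _ _ _

/-- Base change takes products of the small etale site to products. -/
noncomputable def isLimitBcProd (E₁ E₂ : EtOver Y) :
    IsLimit (BinaryFan.mk ((EtOver.bc hf).map (EtOver.prodFst E₁ E₂)) ((EtOver.bc hf).map (EtOver.prodSnd E₁ E₂))) :=
  BinaryFan.IsLimit.mk _ (fun {T} t₁ t₂ => bcProdLift hf t₁ t₂)
    (fun {T} t₁ t₂ => ext_bcObj hf ((bcMap_left_snd hf (bcProdLift hf t₁ t₂) _).trans
      ((congrArg (· ≫ (EtOver.prodFst E₁ E₂).hom.left) (bcProdLift_snd hf t₁ t₂)).trans (bcProdAux_fst hf t₁ t₂))))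
    (fun {T} t₁ t₂ => ext_bcObj hf ((bcMap_left_snd hf (bcProdLift hf t₁ t₂) _).trans
      ((congrArg (· ≫ (EtOver.prodSnd E₁ E₂).hom.left) (bcProdLift_snd hf t₁ t₂)).trans (bcProdAux_snd hf t₁ t₂))))
    (fun {T} t₁ t₂ m h₁ h₂ => ext_bcObj hf (Eq.trans (ext_prodObj
      ((bcMap_left_snd hf m (EtOver.prodFst E₁ E₂)).symm.trans ((congrArg
        (fun k : T ⟶ EtOver.bcObj hf E₁ => k.hom.left ≫ hf.snd E₁.obj.hom) h₁).trans (bcProdAux_fst hf t₁ t₂).symm))
      ((bcMap_left_snd hf m (EtOver.prodSnd E₁ E₂)).symm.trans ((congrArg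
        (fun k : T ⟶ EtOver.bcObj hf E₂ => k.hom.left ≫ hf.snd E₂.obj.hom) h₂).trans (bcProdAux_snd hf t₁ t₂).symm)))
      (bcProdLift_snd hf t₁ t₂).symm))

instance preservesBinaryProducts_bc : PreservesLimitsOfShape (Discrete WalkingPair) (EtOver.bc hf) where
  preservesLimit {K} :=
    haveI : PreservesLimit (pair (K.obj ⟨WalkingPair.left⟩) (K.obj ⟨WalkingPair.right⟩)) (EtOver.bc hf) :=
      preservesLimit_of_preserves_limit_cone (EtOver.prodIsLimit _ _)
        ((isLimitMapConeBinaryFanEquiv _ _ _).symm (isLimitBcProd hf _ _))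
    preservesLimit_of_iso_diagram _ (diagramIsoPair K).symm

theorem coverPreserving_bc : CoverPreserving (etTop Y) (etTop X) (EtOver.bc hf) := by
  refine ⟨fun {U Sv} hS => ?_⟩
  obtain ⟨R, hR, hRS⟩ := (Precoverage.mem_toGrothendieck_iff_of_isStableUnderComposition).1 hS
  refine (etTop X).superset_covering ?_
    (Precoverage.generate_mem_toGrothendieck (EtOver.etPre_le_comap_bc hf _ hR))
  rw [Sieve.generate_le_iff]
  rintro W g ⟨h⟩
  exact ⟨_, _, 𝟙 _, hRS _ _ h, (Category.id_comp _).symm⟩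

instance isContinuous_post (E : EtOver Y) :
    (Over.post (X := E) (EtOver.bc hf)).IsContinuous ((etTop Y).over E) ((etTop X).over ((EtOver.bc hf).obj E)) := by
  haveI : HasFiniteLimits (CategoryTheory.Over E) := hasFiniteLimits_of_hasTerminal_and_pullbacks
  haveI : PreservesLimitsOfShape WalkingCospan (Over.post (X := E) (EtOver.bc hf)) := by
    haveI : PreservesLimitsOfShape WalkingCospan
        (Over.post (X := E) (EtOver.bc hf) ⋙ CategoryTheory.Over.forget ((EtOver.bc hf).obj E)) :=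
      inferInstanceAs (PreservesLimitsOfShape WalkingCospan (CategoryTheory.Over.forget E ⋙ EtOver.bc hf))
    exact preservesLimitsOfShape_of_reflects_of_preserves _ (CategoryTheory.Over.forget ((EtOver.bc hf).obj E))
  haveI : PreservesLimit (Functor.empty.{0} _) (Over.post (X := E) (EtOver.bc hf)) :=
    preservesLimit_of_preserves_limit_cone CategoryTheory.Over.mkIdTerminal
      ((isLimitMapConeEmptyConeEquiv _ _).symm
        (CategoryTheory.Over.mkIdTerminal.ofIso (CategoryTheory.Over.isoMk (Iso.refl _)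
          ((Category.id_comp _).trans ((EtOver.bc hf).map_id E)))))
  haveI : PreservesLimitsOfShape (Discrete PEmpty.{1}) (Over.post (X := E) (EtOver.bc hf)) :=
    preservesLimitsOfShape_pempty_of_preservesTerminal _
  haveI := preservesFiniteLimits_of_preservesTerminal_and_pullbacks (Over.post (X := E) (EtOver.bc hf))
  haveI := flat_of_preservesFiniteLimits (Over.post (X := E) (EtOver.bc hf))
  exact Functor.isContinuous_of_coverPreserving (compatiblePreservingOfFlat _ _)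
    ((coverPreserving_bc hf).overPost E)

/-- A family covering the target covers the source after base change. -/
theorem coversTop_bc (hY : IsAlgSpace Y) {I : Type*} (E : I → EtOver Y) (hE : (etTop Y).CoversTop E) :
    (etTop X).CoversTop (fun i => (EtOver.bc hf).obj (E i)) := by
  intro W
  obtain ⟨U, a, ha, has⟩ := hY.atlas
  let U' := EtOver.mk a ha
  obtain ⟨R, hR, hRS⟩ :=
    (Precoverage.mem_toGrothendieck_iff_of_isStableUnderComposition).1 (hE U')
  obtain ⟨ι, V, g, rfl⟩ := R.exists_eq_ofArrows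
  have hcov := (ofArrows_mem_etPre_iff V g).1 hR
  refine (etTop X).superset_covering ?_ (AlgSp.ofArrows_mem_etTop (E := W)
    (fun k => EtOver.prodObj W ((EtOver.bc hf).obj (V k))) (fun k => EtOver.prodFst _ _) fun x => ?_)
  · intro P h hh
    obtain ⟨k, m, -⟩ := (Sieve.mem_ofArrows_iff _ _ _).1 hh
    obtain ⟨i, ⟨t⟩⟩ := (Sieve.mem_ofObjects_iff ..).1 (hRS _ _ (Presieve.ofArrows.mk k))
    exact (Sieve.mem_ofObjects_iff ..).2 ⟨i, ⟨m ≫ EtOver.prodSnd _ _ ≫ (EtOver.bc hf).map t⟩⟩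
  · obtain ⟨y, hy⟩ := AlgSpLib.surjective_ofPt has (Points.map f (Points.ofPt W.obj.hom x))
    obtain ⟨k, v, rfl⟩ := hcov y
    have e : Points.map f (Points.ofPt W.obj.hom x) = Points.map (V k).obj.hom (Points.ofScheme _ v) := by
      rw [← hy, ← Points.ofPt_eq_map_ofScheme, ← EtOver.w (g k)]
      exact (AlgSpLib.ofPt_comp _ _ _).symm
    obtain ⟨z, hz, -⟩ := AlgSpLib.exists_point_of_isPullback (EtOver.isPullback_bcObj hf (V k)) e
    obtain ⟨v', rfl⟩ : ∃ v', Points.ofScheme _ v' = z := ⟨_, Points.ofScheme_toScheme _ z⟩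
    rw [← Points.ofPt_eq_map_ofScheme] at hz
    obtain ⟨r, -, hr⟩ := AlgSpLib.exists_ofPt_of_eq
      (((EtOver.bc hf).obj (V k)).property.1.isPullback' W.obj.hom) hz
    exact ⟨k, r, hr⟩

variable [(SheafOfModules.pushforward.{u + 1} (bcRingHom hf)).IsRightAdjoint]

/-- Pullback along a representable morphism preserves quasi-coherence. -/
theorem isQuasicoherent_pullModEt (hY : IsAlgSpace Y) (G : ModEt Y) [hG : G.IsQuasicoherent] :
    ((pullModEt hf).obj G).IsQuasicoherent := by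
  obtain ⟨q⟩ := hG.nonempty_quasicoherentData
  exact SheafOfModules.QuasicoherentData.isQuasicoherent (M := (pullModEt hf).obj G)
    { I := q.I
      X := fun i => (EtOver.bc hf).obj (q.X i)
      coversTop := coversTop_bc hf hY q.X q.coversTop
      presentation := fun i => PullQC.presentation (q.X i) (EtOver.bc hf) (bcRingHom hf) (q.presentation i) }

end Groth.Agent.QCart
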