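import Groth.Agent.QCart.Exact
import Mathlib.Algebra.Category.ModuleCat.Sheaf.Quasicoherent

/-!
# Quasi-coherent sheaves of modules are the cartesian ones
-/

universe w v₁ u₁

set_option autoImplicit false
set_option linter.style.haveILetI false
set_option linter.unusedSectionVars false
set_option backward.isDefEq.respectTransparency false
set_option backward.isDefEq.respectTransparency.types false

open CategoryTheory CategoryTheory.Limits Opposite TensorProduct

namespace Groth.Agent.QCart

variable {C : Type u₁} [Category.{v₁} C] {J : GrothendieckTopology C}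
  [J.HasSheafCompose (forget₂ CommRingCat.{w} RingCat.{w})]
  [J.HasSheafCompose (CategoryTheory.forget AddCommGrpCat.{w})]
  [HasSheafify J AddCommGrpCat.{w}] [J.WEqualsLocallyBijective AddCommGrpCat.{w}]
  {R : Sheaf J CommRingCat.{w}}

section

variable {b : AffBasis J R.obj}

theorem AffBasis.isCart_unit : b.IsCart (psh (SheafOfModules.unit (RS R))) :=
  fun E _ _ _ g => (cart_iff_isBaseChange g _).2 (IsBaseChange.linearMap (R.obj.obj (op E)) (Rg R.obj g))

theorem AffBasis.isCart_free (I : Type w) : b.IsCart (psh (SheafOfModules.free (R := RS R) I)) :=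
  b.isCart_colimit_sheaf (Discrete.functor fun _ : I => SheafOfModules.unit (RS R)) (SheafOfModules.freeCofan I)
    (SheafOfModules.isColimitFreeCofan I) fun _ => b.isCart_unit

theorem AffBasis.isCart_of_presentation {M : SheafOfModules.{w} (RS R)} (P : M.Presentation) :
    b.IsCart (psh M) :=
  let f := (SheafOfModules.freeHomEquiv _).symm P.relations.s ≫ Limits.kernel.ι P.generators.π
  ((b.isCart_free P.relations.I).cokernel f (b.isCart_free P.generators.I)).of_iso (b := b)
    ((cokernelIsCokernel f).coconePointUniqueUpToIso P.isColimit)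

variable {T : C} (hT : IsTerminal T) {M : SheafOfModules.{w} (RS R)}

/-- The global section with given value on the terminal object. -/
noncomputable def globalSec (x : (psh M).obj (op T)) : M.sections :=
  ⟨fun X => sres (psh M) (hT.from X.unop) x, fun {X Y} f => by
    refine (sres_sres (psh M) (hT.from X.unop) f.unop x).trans ?_
    rw [hT.hom_ext (f.unop ≫ hT.from X.unop) (hT.from Y.unop)]⟩

/-- A cartesian sheaf is generated by its sections on an affine terminal object. -/
noncomputable def AffBasis.IsCart.generatingSections (hTa : b.aff T) (hM : b.IsCart (psh M)) :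
    M.GeneratingSections where
  I := (psh M).obj (op T)
  s := globalSec hT
  epi := by
    constructor
    intro N g g' h
    rw [SheafOfModules.freeHomEquiv_symm_comp, SheafOfModules.freeHomEquiv_symm_comp] at h
    have hs := N.freeHomEquiv.symm.injective h
    have key : ∀ W : C, b.aff W → ∀ y : (psh M).obj (op W), (phom g).app (op W) y = (phom g').app (op W) y := by
      intro W hW y
      obtain ⟨z, hz⟩ := (hM hTa hW (hT.from W)).2 (toSec _ _ y)
      change appSec (phom g) (hT.from W) (toSec (hT.from W) (psh M) y) = appSec (phom g') _ (toSec _ (psh M) y)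
      rw [← hz]
      clear hz
      induction z using TensorProduct.induction_on with
      | zero => simp only [map_zero]
      | add z z' hz hz' => simp only [map_add, hz, hz']
      | tmul r x =>
        rw [bcMap_tmul, map_smul, map_smul]
        refine congrArg (r • ·) ?_
        exact congrFun (congrArg Subtype.val (congrFun hs x)) (op W)
    refine SheafOfModules.Hom.ext (PresheafOfModules.hom_ext fun X => ModuleCat.hom_ext (LinearMap.ext fun y => ?_))
    refine sres_ext_of_mem N (b.dense X.unop) _ _ fun W f hf => ?_
    obtain ⟨A, p, q, hA, rfl⟩ := hf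
    rw [← sres_sres, ← sres_sres]
    refine congrArg (sres (psh N) p) ?_
    exact ((app_sres (phom g) q y).symm.trans (key A hA _)).trans (app_sres (phom g') q y)

/-- A cartesian sheaf on a site with an affine terminal object has a presentation. -/
noncomputable def AffBasis.IsCart.presentation (hTa : b.aff T) (hM : b.IsCart (psh M)) : M.Presentation where
  generators := hM.generatingSections hT hTa
  relations := ((b.isCart_free _).kernel _ hM).generatingSections hT hTa

end

variable [∀ U : C, (J.over U).HasSheafCompose (forget₂ CommRingCat.{w} RingCat.{w})]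
  [∀ U : C, (J.over U).HasSheafCompose (CategoryTheory.forget AddCommGrpCat.{w})]
  [∀ U : C, HasSheafify (J.over U) AddCommGrpCat.{w}]
  [∀ U : C, (J.over U).WEqualsLocallyBijective AddCommGrpCat.{w}]

variable (b : AffBasis J R.obj)

/-- The affine objects of a slice. -/
noncomputable def AffBasis.over (U : C) : AffBasis (J.over U) (R.over U).obj where
  aff Y := b.aff Y.left
  flat {E E'} hE hE' g := b.flat hE hE' g.left
  dense Y := by
    rw [J.mem_over_iff, Sieve.overEquiv_generate]
    refine J.superset_covering ?_ (b.dense Y.left)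
    rintro W f ⟨A, p, q, hA, rfl⟩
    refine Sieve.downward_closed _ (Sieve.le_generate _ _ _ ?_) p
    exact ⟨Over.mk (q ≫ Y.hom), Over.homMk q, 𝟙 A, hA, (Category.id_comp q).symm⟩
  pb {E Z Z'} hE hZ hZ' g g' := by
    obtain ⟨P, p, q, hP, hpb, hsq⟩ := b.pb hE hZ hZ' g.left g'.left
    have hw : q ≫ Z'.hom = p ≫ Z.hom := by
      rw [← Over.w g', ← Over.w g]
      exact ((Category.assoc _ _ _).symm.trans (congrArg (· ≫ E.hom) hpb.w.symm)).trans (Category.assoc _ _ _)
    refine ⟨Over.mk (p ≫ Z.hom), Over.homMk p, Over.homMk q hw, hP, ?_, ?_⟩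
    · refine IsPullback.of_map (Over.forget U) ?_ hpb
      exact Over.OverMorphism.ext hpb.w
    · exact ⟨Over.OverMorphism.ext hpb.w, hsq.pushout⟩
  cover {E} hE S hS := by
    obtain ⟨c, hc⟩ := b.cover hE (Sieve.overEquiv E S) hS
    refine ⟨{ n := c.n, Z := fun i => Over.mk (c.m i ≫ E.hom), m := fun i => Over.homMk (c.m i),
              aff_Z := c.aff_Z, mem := ?_, ff := c.ff }, fun i => ?_⟩
    · rw [J.mem_over_iff, Sieve.overEquiv_ofArrows]
      exact c.mem
    · exact (Sieve.overEquiv_iff S (c.m i)).1 (hc i)

variable {b} {M : SheafOfModules.{w} (RS R)}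

theorem AffBasis.IsCart.over (hM : b.IsCart (psh M)) (U : C) :
    (b.over U).IsCart (psh (R := R.over U) (M.over U)) :=
  fun _ _ hE hE' g => hM hE hE' g.left

/-- A presentation over an object gives cartesianness over it. -/
theorem AffBasis.isCartOver_of_presentation {U : C} (P : (M.over U).Presentation) : b.IsCartOver (psh M) U := by
  intro E E' hE hE' u g
  exact ((b.over U).isCart_of_presentation (R := R.over U) P (E := Over.mk u) (E' := Over.mk (g ≫ u))
    hE hE' (Over.homMk g) :)

theorem AffBasis.isCartLocal_of_isQuasicoherent (b : AffBasis J R.obj) [hM : M.IsQuasicoherent] :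
    b.IsCartLocal M := fun E _ => by
  obtain ⟨q⟩ := hM.nonempty_quasicoherentData
  refine ⟨_, q.coversTop E, fun W f hf => ?_⟩
  obtain ⟨i, ⟨u⟩⟩ := (Sieve.mem_ofObjects_iff ..).1 hf
  exact fun A A' hA hA' v g => AffBasis.isCartOver_of_presentation (q.presentation i) hA hA' (v ≫ u) g

theorem AffBasis.isCart_of_isQuasicoherent (b : AffBasis J R.obj) [M.IsQuasicoherent] : b.IsCart (psh M) :=
  b.isCartLocal_of_isQuasicoherent.isCart M

theorem AffBasis.IsCart.isQuasicoherent (hM : b.IsCart (psh M)) : M.IsQuasicoherent :=
  SheafOfModules.QuasicoherentData.isQuasicoherent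
    { I := { E : C // b.aff E }
      X := fun E => E.1
      coversTop := fun X => by
        refine J.superset_covering ?_ (b.dense X)
        rintro W f ⟨A, p, q, hA, rfl⟩
        exact (Sieve.mem_ofObjects_iff ..).2 ⟨⟨A, hA⟩, ⟨p⟩⟩
      presentation := fun E =>
        (hM.over E.1).presentation (R := R.over E.1) Over.mkIdTerminal E.2 }

theorem AffBasis.isQuasicoherent_iff_isCart (b : AffBasis J R.obj) :
    M.IsQuasicoherent ↔ b.IsCart (psh M) :=
  ⟨fun _ => b.isCart_of_isQuasicoherent, fun h => h.isQuasicoherent⟩

end Groth.Agent.QCart
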