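import Groth.Agent.QCart.Sub
import Groth.Agent.QCart.EtBasis
import Groth.Prelude.Def_AlgSpModX

/-!
# Sections killed by ideals of functions
-/

universe u

set_option autoImplicit false
set_option linter.style.haveILetI false
set_option backward.isDefEq.respectTransparency false
set_option backward.isDefEq.respectTransparency.types false

open CategoryTheory CategoryTheory.Limits AlgebraicGeometry Opposite TensorProduct AlgSp

namespace Groth.Agent.QCart

variable {S : Scheme.{u}} {X : Sp S} (F : ModEt X)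

/-- The restriction of scalar multiplication by a function. -/
theorem sres_up_smul {E E' : EtOver X} (g : E' ⟶ E) (a : Γ(E.obj.left.left, ⊤)) (x : sectModEt F E) :
    sres (psh (R := OEt X) F) g (upΓ E a • x) =
      upΓ E' (g.hom.left.left.appTop.hom a) • sres (psh (R := OEt X) F) g x :=
  sres_smul (psh (R := OEt X) F) g (ULift.up a) x

/-- The sections killed by an ideal of functions. -/
noncomputable def killed (E : EtOver X) (I : Ideal Γ(E.obj.left.left, ⊤)) :
    Submodule ((OEt X).obj.obj (op E)) ((psh (R := OEt X) F).obj (op E)) where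
  carrier := {s | ∀ a ∈ I, (upΓ E a) • (show sectModEt F E from s) = 0}
  add_mem' := fun {x y} hx hy a ha => by
    show upΓ E a • ((show sectModEt F E from x) + y) = 0
    rw [smul_add, hx a ha, hy a ha, add_zero]
  zero_mem' := fun a _ => smul_zero _
  smul_mem' := fun c x hx a ha => by
    obtain ⟨c⟩ := c
    show upΓ E a • (upΓ E c • (show sectModEt F E from x)) = 0
    rw [← mul_smul, ← map_mul, mul_comm, map_mul, mul_smul, hx a ha, smul_zero]

theorem eq_zero_of_cover {E : EtOver X} (hE : IsAff X E) (hF : (etBasis X).IsCart (psh (R := OEt X) F))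
    (c : Cover (etTop X) (OEt X).obj (etBasis X).aff E) (x : sectModEt F E)
    (h : ∀ i, sres (psh (R := OEt X) F) (c.m i) x = 0) : x = 0 :=
  hF.eq_zero_of_res hE c x h

/-- A section of a base change killed by the image of a finitely generated ideal comes from killed sections. -/
theorem mem_range_killed {E E' : EtOver X} (hE : IsAff X E) (hE' : IsAff X E') (g : E' ⟶ E)
    (hF : (etBasis X).IsCart (psh (R := OEt X) F)) {I : Ideal Γ(E.obj.left.left, ⊤)} (hI : I.FG)
    (T : Submodule ((OEt X).obj.obj (op E)) ((psh (R := OEt X) F).obj (op E)))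
    (hT : killed F E I ≤ T)
    (z : Rg (OEt X).obj g ⊗[(OEt X).obj.obj (op E)] (psh (R := OEt X) F).obj (op E))
    (hz : ∀ a ∈ I, upΓ E' (g.hom.left.left.appTop.hom a) •
      (show sectModEt F E' from bcMap g (psh (R := OEt X) F) z) = 0) :
    z ∈ LinearMap.range (T.subtype.lTensor (Rg (OEt X).obj g)) := by
  haveI : Module.Flat ((OEt X).obj.obj (op E)) (Rg (OEt X).obj g) := (etBasis X).flat hE hE' g
  let up : Γ(E.obj.left.left, ⊤) →+* (OEt X).obj.obj (op E) :=
    (ULift.ringEquiv.{u, u + 1} (R := Γ(E.obj.left.left, ⊤))).symm.toRingHom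
  refine mem_range_torsion (hI.map up) T (fun x hx => hT fun a ha => ?_) z fun a ha => (hF hE hE' g).1 ?_
  · exact hx _ (Ideal.mem_map_of_mem up ha)
  · rw [map_zero, map_smul]
    obtain ⟨a₀, ha₀, rfl⟩ := (Ideal.mem_map_iff_of_surjective up fun c => ⟨c.down, rfl⟩).1 ha
    exact hz a₀ ha₀

variable {F} in
/-- The sections killed by a quasi-coherent family of ideals. -/
noncomputable def killedData (hF : (etBasis X).IsCart (psh (R := OEt X) F)) (I : IdealEt X) (hI : I.IsQCoh) :
    SubData (R := OEt X) F (etBasis X) where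
  A E hE := killed F E (I.ideal E hE)
  res_mem := by
    intro E E' hE hE' g x hx a ha
    have hle : I.ideal E' hE' ≤ Ideal.comap (upΓ E') (LinearMap.ker (LinearMap.toSpanSingleton _ _
        (show sectModEt F E' from sres (psh (R := OEt X) F) g x))) :=
      (hI g hE hE').trans (Ideal.map_le_iff_le_comap.2 fun c hc => by
        show upΓ E' (g.hom.left.left.appTop.hom c) • (show sectModEt F E' from sres (psh (R := OEt X) F) g x) = 0
        have h0 : upΓ E c • (show sectModEt F E from x) = 0 := hx c hc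
        rw [← sres_up_smul F g c x, h0, map_zero])
    exact hle ha
  local_mem := by
    intro E hE c x hx a ha
    refine eq_zero_of_cover F hE hF c _ fun i => ?_
    rw [sres_up_smul F (c.m i) a x]
    exact hx i _ (I.map_le (c.m i) hE (c.aff_Z i) (Ideal.mem_map_of_mem _ ha))

end Groth.Agent.QCart

namespace Groth.Agent.QCart

/-- Zero loci under pullback of functions. -/
theorem zeroLocus_map_appTop {P Q : Scheme.{u}} (f : P ⟶ Q) (I : Ideal Γ(Q, ⊤)) :
    P.zeroLocus (U := ⊤) (I.map f.appTop.hom : Set Γ(P, ⊤)) = f ⁻¹' Q.zeroLocus (U := ⊤) (I : Set Γ(Q, ⊤)) := by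
  rw [Scheme.preimage_zeroLocus]
  exact P.zeroLocus_span (U := ⊤) _

/-- Containment of zero loci on an affine scheme. -/
theorem zeroLocus_subset_iff {P : Scheme.{u}} [IsAffine P] (I J : Ideal Γ(P, ⊤)) :
    P.zeroLocus (U := ⊤) (I : Set Γ(P, ⊤)) ⊆ P.zeroLocus (U := ⊤) (J : Set Γ(P, ⊤)) ↔ J ≤ I.radical := by
  rw [← PrimeSpectrum.zeroLocus_subset_zeroLocus_iff]
  constructor
  · intro h
    rw [← Scheme.isoSpec_inv_preimage_zeroLocus, ← Scheme.isoSpec_inv_preimage_zeroLocus]
    exact Set.preimage_mono h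
  · intro h
    rw [← Scheme.isoSpec_inv_image_zeroLocus, ← Scheme.isoSpec_inv_image_zeroLocus]
    exact Set.image_mono h

/-- A closed set with quasi-compact complement is cut out by finitely many functions. -/
theorem exists_fg_zeroLocus_eq {P : Scheme.{u}} [IsAffine P] (U : P.Opens) (hU : IsCompact (U : Set P)) :
    ∃ I : Ideal Γ(P, ⊤), I.FG ∧ P.zeroLocus (U := ⊤) (I : Set Γ(P, ⊤)) = (U : Set P)ᶜ := by
  obtain ⟨s, hs, he⟩ := isCompact_and_isOpen_iff_finite_and_eq_biUnion_basicOpen.1 ⟨hU, U.2⟩
  refine ⟨Ideal.span s, ⟨hs.toFinset, by rw [Set.Finite.coe_toFinset]⟩, ?_⟩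
  rw [Scheme.zeroLocus_span, he]
  ext x
  simp

end Groth.Agent.QCart
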