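import Groth.Agent.QCart.Exact
import Mathlib.Algebra.Category.ModuleCat.Sheaf
import Mathlib.CategoryTheory.Sites.Whiskering

/-!
# Submodules of a sheaf of modules given on the affine objects
-/

universe u

set_option autoImplicit false
set_option linter.style.haveILetI false
set_option linter.unusedSectionVars false
set_option backward.isDefEq.respectTransparency false
set_option backward.isDefEq.respectTransparency.types false

open CategoryTheory CategoryTheory.Limits Opposite TensorProduct

namespace Groth.Agent.QCart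

variable {C : Type (u + 1)} [Category.{u} C] {J : GrothendieckTopology C}
  [J.HasSheafCompose (forget₂ CommRingCat.{u + 1} RingCat.{u + 1})]
  [J.HasSheafCompose (CategoryTheory.forget AddCommGrpCat.{u + 1})]
  {R : Sheaf J CommRingCat.{u + 1}} {b : AffBasis J R.obj} (M : SheafOfModules.{u + 1} (RS R))

/-- A family of submodules of sections on affine objects, stable under restriction and local. -/
structure SubData (b : AffBasis J R.obj) where
  A : ∀ E : C, b.aff E → Submodule (R.obj.obj (op E)) ((psh M).obj (op E))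
  res_mem : ∀ ⦃E E' : C⦄ (hE : b.aff E) (hE' : b.aff E') (g : E' ⟶ E) (x : (psh M).obj (op E)),
    x ∈ A E hE → sres (psh M) g x ∈ A E' hE'
  local_mem : ∀ ⦃E : C⦄ (hE : b.aff E) (c : Cover J R.obj b.aff E) (x : (psh M).obj (op E)),
    (∀ i, sres (psh M) (c.m i) x ∈ A (c.Z i) (c.aff_Z i)) → x ∈ A E hE

variable {M} (D : SubData M b)

/-- The sections with all restrictions to affine objects in the given submodules. -/
noncomputable def SubData.sec (W : C) : Submodule (R.obj.obj (op W)) ((psh M).obj (op W)) where
  carrier := {s | ∀ ⦃E : C⦄ (hE : b.aff E) (f : E ⟶ W), sres (psh M) f s ∈ D.A E hE}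
  add_mem' := fun {x y} hx hy E hE f => by
    rw [map_add]
    exact add_mem (hx hE f) (hy hE f)
  zero_mem' := fun E hE f => by
    rw [map_zero]
    exact zero_mem _
  smul_mem' := fun a x hx E hE f => by
    rw [sres_smul]
    exact Submodule.smul_mem _ _ (hx hE f)

theorem SubData.sres_mem {W W' : C} (f : W' ⟶ W) {s : (psh M).obj (op W)} (hs : s ∈ D.sec W) :
    sres (psh M) f s ∈ D.sec W' := fun E hE k => by
  rw [sres_sres]
  exact hs hE (k ≫ f)

theorem SubData.mem_sec_iff {E : C} (hE : b.aff E) (x : (psh M).obj (op E)) : x ∈ D.sec E ↔ x ∈ D.A E hE :=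
  ⟨fun h => by simpa [sres_id] using h hE (𝟙 E), fun h _ hE' f => D.res_mem hE hE' f x h⟩

/-- The underlying abelian presheaf of the submodule. -/
noncomputable def SubData.ab : Cᵒᵖ ⥤ AddCommGrpCat.{u + 1} where
  obj W := AddCommGrpCat.of (D.sec W.unop)
  map {W W'} f := AddCommGrpCat.ofHom
    (AddMonoidHom.mk' (fun s => (⟨sres (psh M) f.unop s.1, D.sres_mem f.unop s.2⟩ : D.sec W'.unop))
      fun s t => Subtype.ext (map_add (sres (psh M) f.unop) s.1 t.1))
  map_id W := by
    ext s

    exact sres_id (psh M) s.1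
  map_comp f f' := by
    ext s

    exact (sres_sres (psh M) f.unop f'.unop s.1).symm

noncomputable instance (W : Cᵒᵖ) : Module ((RS R).obj.obj W) (D.ab.obj W) :=
  inferInstanceAs (Module (R.obj.obj (op W.unop)) (D.sec W.unop))

/-- The submodule as a presheaf of modules. -/
noncomputable def SubData.pre : PresheafOfModules.{u + 1} (RS R).obj :=
  PresheafOfModules.ofPresheaf D.ab fun _ _ f r m => Subtype.ext (sres_smul (psh M) f.unop r m.1)

theorem SubData.isSheaf : Presheaf.IsSheaf J D.pre.presheaf := by
  refine (Presheaf.isSheaf_iff_isSheaf_forget J D.ab (CategoryTheory.forget AddCommGrpCat.{u + 1})).2 ?_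
  refine (isSheaf_iff_isSheaf_of_type J _).2 fun X S hS x hx => ?_
  have hM := isSheaf_types M S hS
  let y : Presieve.FamilyOfElements ((psh M).presheaf ⋙ CategoryTheory.forget AddCommGrpCat.{u + 1}) S.arrows :=
    fun W f hf => (x f hf).1
  have hy : y.Compatible := fun W₁ W₂ Z g₁ g₂ f₁ f₂ h₁ h₂ e => congrArg Subtype.val (hx g₁ g₂ h₁ h₂ e)
  obtain ⟨s, hs, hu⟩ := hM y hy
  have hmem : s ∈ D.sec X := fun E hE f => by
    obtain ⟨c, hc⟩ := b.cover hE _ (J.pullback_stable f hS)
    refine D.local_mem hE c _ fun i => ?_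
    rw [sres_sres]
    have h := (x (c.m i ≫ f) (hc i)).2
    rw [show (x (c.m i ≫ f) (hc i)).1 = sres (psh M) (c.m i ≫ f) s from (hs _ (hc i)).symm] at h
    exact (D.mem_sec_iff (c.aff_Z i) _).1 h
  refine ⟨⟨s, hmem⟩, fun W f hf => Subtype.ext (hs f hf), fun t ht => Subtype.ext (hu t.1 fun W f hf => ?_)⟩
  exact congrArg Subtype.val (ht f hf)

/-- The submodule as a sheaf of modules. -/
noncomputable def SubData.shf : SheafOfModules.{u + 1} (RS R) where
  val := D.pre
  isSheaf := D.isSheaf

/-- The inclusion of the submodule. -/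
noncomputable def SubData.ι : D.shf ⟶ M where
  val :=
    { app := fun W => ModuleCat.ofHom (X := D.sec W.unop) (Y := (psh M).obj W)
        { toFun := fun s => s.1
          map_add' := fun _ _ => rfl
          map_smul' := fun _ _ => rfl }
      naturality := fun _ => rfl }

theorem SubData.range_ι {E : C} (hE : b.aff E) :
    Set.range ((phom D.ι).app (op E)) = (D.A E hE : Set ((psh M).obj (op E))) := by
  refine Set.ext fun x => ⟨?_, fun hx => ⟨⟨x, (D.mem_sec_iff hE x).2 hx⟩, rfl⟩⟩
  rintro ⟨s, rfl⟩
  exact (D.mem_sec_iff hE _).1 s.2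

instance : Mono D.ι := by
  constructor
  intro N g g' h
  refine SheafOfModules.Hom.ext (PresheafOfModules.hom_ext fun W => ModuleCat.hom_ext (LinearMap.ext fun x => ?_))
  exact Subtype.ext (congrArg (fun k : N ⟶ M => (phom k).app W x) h)

/-- The submodule is cartesian as soon as its sections on affine objects generate. -/
theorem SubData.isCart (hM : b.IsCart (psh M))
    (h : ∀ ⦃E E' : C⦄ (hE : b.aff E) (hE' : b.aff E') (g : E' ⟶ E) (z : Rg R.obj g ⊗[R.obj.obj (op E)] (psh M).obj (op E)),
      toSec g (psh M) (bcMap g (psh M) z) ∈ (D.A E' hE' : Set ((psh M).obj (op E'))) →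
      z ∈ LinearMap.range ((D.A E hE).subtype.lTensor (Rg R.obj g))) :
    b.IsCart (psh D.shf) := by
  intro E E' hE hE' g
  haveI : Module.Flat (R.obj.obj (op E)) (Rg R.obj g) := b.flat hE hE' g
  have inj : Function.Injective ((appO (phom D.ι) E).lTensor (Rg R.obj g)) :=
    Module.Flat.lTensor_preserves_injective_linearMap _ fun s t e => Subtype.ext e
  refine ⟨fun z z' e => inj ((hM hE hE' g).1 ?_), fun y => ?_⟩
  · rw [← bcMap_natural, ← bcMap_natural, e]
  obtain ⟨z, hz⟩ := (hM hE hE' g).2 (appSec (phom D.ι) g y)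
  obtain ⟨v, rfl⟩ := h hE hE' g z (by
    rw [hz]
    exact (D.mem_sec_iff hE' _).1 (show (psh D.shf).obj (op E') from y).2)
  let incl : D.A E hE →ₗ[R.obj.obj (op E)] (psh D.shf).obj (op E) :=
    { toFun := fun s => (⟨s.1, (D.mem_sec_iff hE s.1).2 s.2⟩ : D.sec E)
      map_add' := fun _ _ => rfl
      map_smul' := fun _ _ => rfl }
  refine ⟨incl.lTensor _ v, ?_⟩
  have hv : (appO (phom D.ι) E).lTensor (Rg R.obj g) (incl.lTensor _ v) = (D.A E hE).subtype.lTensor _ v := by
    rw [← LinearMap.comp_apply, ← LinearMap.lTensor_comp]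
    rfl
  have h2 := (bcMap_natural (phom D.ι) g (incl.lTensor _ v)).trans ((congrArg _ hv).trans hz)
  exact Subtype.ext h2

/-- The elements killed by a finitely generated ideal generate those killed after a flat base change. -/
theorem mem_range_torsion {A B : Type*} [CommRing A] [CommRing B] [Algebra A B] [Module.Flat A B] {N : Type*}
    [AddCommGroup N] [Module A N] {I : Ideal A} (hI : I.FG) (T : Submodule A N)
    (hT : ∀ x : N, (∀ a ∈ I, a • x = 0) → x ∈ T) (z : B ⊗[A] N) (hz : ∀ a ∈ I, algebraMap A B a • z = 0) :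
    z ∈ LinearMap.range (T.subtype.lTensor B) := by
  obtain ⟨n, a, rfl⟩ := Submodule.fg_iff_exists_fin_generating_family.1 hI
  let d : N →ₗ[A] (Fin n → N) := LinearMap.pi fun k => a k • LinearMap.id
  have hd : Function.Exact d.ker.subtype d := LinearMap.exact_subtype_ker_map d
  obtain ⟨v, hv⟩ := (Module.Flat.lTensor_exact B hd z).1
    ((TensorProduct.piRight A A B fun _ : Fin n => N).injective (funext fun k => by
      rw [map_zero, Pi.zero_apply]
      have e : ∀ z : B ⊗[A] N,
          TensorProduct.piRight A A B (fun _ : Fin n => N) (d.lTensor B z) k = algebraMap A B (a k) • z := fun z => by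
        induction z using TensorProduct.induction_on with
        | zero => simp
        | add z z' hz hz' => simp only [map_add, Pi.add_apply, smul_add, hz, hz']
        | tmul t x =>
          rw [LinearMap.lTensor_tmul, TensorProduct.piRight_apply, TensorProduct.piRightHom_tmul]
          show t ⊗ₜ[A] (a k • x) = (algebraMap A B (a k) * t) ⊗ₜ[A] x
          rw [← Algebra.smul_def, TensorProduct.smul_tmul]
      rw [e]
      exact hz _ (Submodule.subset_span ⟨k, rfl⟩)))
  have hle : d.ker ≤ T := fun x hx => hT x fun r hr => by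
    induction hr using Submodule.span_induction with
    | mem r hr => obtain ⟨k, rfl⟩ := hr; exact congrFun hx k
    | zero => exact zero_smul A x
    | add r r' _ _ h h' => rw [add_smul, h, h', add_zero]
    | smul c r _ h => rw [smul_eq_mul, mul_smul, h, smul_zero]
  exact ⟨(Submodule.inclusion hle).lTensor B v, by
    rw [← hv, ← LinearMap.comp_apply, ← LinearMap.lTensor_comp]; rfl⟩

end Groth.Agent.QCart
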