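import Groth.Agent.QCart.Basis
import Groth.Agent.CAlgUI.DescentProj
import Mathlib.LinearAlgebra.TensorProduct.Pi
import Mathlib.RingTheory.Flat.FaithfullyFlat.Basic
import Mathlib.Algebra.Module.Projective

/-!
# Projectivity descends along a finite jointly faithfully flat family
-/

universe w v₁ u₁

set_option autoImplicit false
set_option linter.style.haveILetI false

open TensorProduct CategoryTheory Opposite

namespace Groth.Agent.QCart

/-- A projective module over a projective algebra is projective over the base. -/
theorem projective_trans {B B' N : Type w} [CommRing B] [CommRing B'] [Algebra B B'] [AddCommGroup N]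
    [Module B N] [Module B' N] [IsScalarTower B B' N] [Module.Projective B B'] [h : Module.Projective B' N] :
    Module.Projective B N := by
  classical
  obtain ⟨s, hs⟩ := h.out
  haveI : Module.Projective B (N →₀ B') := Module.Projective.of_equiv' (finsuppLequivDFinsupp B).symm
  exact Module.Projective.of_split (s.restrictScalars B) ((Finsupp.linearCombination B' id).restrictScalars B)
    (LinearMap.ext hs)

/-- Projectivity descends along a finite family of flat algebras detecting elements. -/
theorem projective_of_family {A : Type w} [CommRing A] {n : ℕ} (B : Fin n → Type w) [∀ i, CommRing (B i)]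
    [∀ i, Algebra A (B i)] [∀ i, Module.Flat A (B i)]
    (ff : ∀ (N : Type w) [AddCommGroup N] [Module A N] (x : N),
      (∀ i, (1 : B i) ⊗ₜ[A] x = 0) → x = 0)
    {M : Type w} [AddCommGroup M] [Module A M] (h : ∀ i, Module.Projective (B i) (B i ⊗[A] M)) :
    Module.Projective A M := by
  classical
  let P := ∀ i, B i
  haveI : Module.Flat A P := Module.Flat.of_linearEquiv (DFinsupp.linearEquivFunOnFintype (R := A)).symm
  haveI : Module.FaithfullyFlat A P := by
    rw [Module.FaithfullyFlat.iff_flat_and_lTensor_faithful]
    refine ⟨inferInstance, fun N _ _ hN => ?_⟩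
    by_contra hc
    rw [not_nontrivial_iff_subsingleton] at hc
    obtain ⟨x, hx⟩ := exists_ne (0 : N)
    refine hx (ff N x fun i => ?_)
    have := congrArg ((LinearMap.proj i : P →ₗ[A] B i).rTensor N) (Subsingleton.elim ((1 : P) ⊗ₜ[A] x) 0)
    rw [map_zero, LinearMap.rTensor_tmul] at this
    exact this
  letI : ∀ i, Module P (B i ⊗[A] M) := fun i => Module.compHom _ (Pi.evalRingHom B i)
  haveI : ∀ i, Module.Projective P (B i ⊗[A] M) := fun i => by
    letI : Algebra P (B i) := (Pi.evalRingHom B i).toAlgebra
    haveI hT : IsScalarTower P (B i) (B i ⊗[A] M) := IsScalarTower.of_algebraMap_smul fun _ _ => rfl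
    let single : B i →ₗ[P] P :=
      { toFun := fun x => (Pi.single (M := B) i x : P)
        map_add' := fun x y => Pi.single_add (f := B) i x y
        map_smul' := fun c x => by
          funext j
          rcases eq_or_ne j i with rfl | hj
          · simp [Algebra.smul_def, RingHom.algebraMap_toAlgebra]
            exact (congrArg (c j * ·) (Pi.single_eq_same (M := B) j x)).symm
          · simp [hj]
            exact ((congrArg (c j * ·) (Pi.single_eq_of_ne (M := B) hj x)).trans (mul_zero _)).symm }
    haveI : Module.Projective P (B i) :=
      Module.Projective.of_split single (Algebra.linearMap P (B i))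
        (LinearMap.ext fun x => Pi.single_eq_same (M := B) i x)
    haveI hh := h i
    exact @projective_trans P (B i) (B i ⊗[A] M) _ _ _ _ _ _ hT _ hh
  haveI : Module.Projective P (∀ i, B i ⊗[A] M) :=
    Module.Projective.of_equiv' (DFinsupp.linearEquivFunOnFintype (R := P) (M := fun i => B i ⊗[A] M))
  let e := TensorProduct.piLeft (R := A) (M := B) (N := M)
  have he : ∀ (b : P) z, e (b • z) = b • e z := fun b z => by
    induction z using TensorProduct.induction_on with
    | zero => rw [smul_zero, map_zero, smul_zero]
    | add x y hx hy => rw [smul_add, map_add, hx, hy, map_add, smul_add]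
    | tmul c m =>
      funext i
      show e ((b * c) ⊗ₜ[A] m) i = (b i) • e (c ⊗ₜ[A] m) i
      simp [e, piLeft, smul_tmul']
      rfl
  let e' : (P ⊗[A] M) ≃ₗ[P] (∀ i, B i ⊗[A] M) := { e with map_smul' := he }
  haveI : Module.Projective P (P ⊗[A] M) := Module.Projective.of_equiv' e'.symm
  exact CAlgUI.projective_descent (S := P)

end Groth.Agent.QCart
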