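import Groth.Agent.QCart.Basis
import Mathlib.Algebra.Category.ModuleCat.Sheaf
import Mathlib.Algebra.Category.Ring.Limits
import Mathlib.Algebra.Category.Grp.Limits
import Mathlib.CategoryTheory.Sites.Whiskering
import Mathlib.CategoryTheory.Sites.Limits
import Mathlib.RingTheory.Flat.Basic

/-!
# Sheaves of modules which are locally cartesian are cartesian
-/

universe w v₁ u₁

set_option autoImplicit false
set_option linter.style.haveILetI false
set_option backward.isDefEq.respectTransparency false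
set_option backward.isDefEq.respectTransparency.types false

open CategoryTheory Opposite TensorProduct

namespace Groth.Agent.QCart

variable {C : Type u₁} [Category.{v₁} C] {J : GrothendieckTopology C}

theorem mixMap_resOver {O : Cᵒᵖ ⥤ CommRingCat.{w}} (M : PresheafOfModules.{w} (RR O)) {E Z Z' P Q Q' : C}
    {g : Z ⟶ E} {g' : Z' ⟶ E} {p : Q ⟶ Z} {q : Q ⟶ Z'} {m : P ⟶ E} {r : Q' ⟶ P} {r' : Q' ⟶ Z'}
    (w : p ≫ g = q ≫ g') (w' : r ≫ m = r' ≫ g') (s : P ⟶ Z) (hs : s ≫ g = m) (k : Q' ⟶ Q)
    (hp : k ≫ p = r ≫ s) (hq : k ≫ q = r') (z : Rg O g' ⊗[O.obj (op E)] Sec M g) :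
    mixMap m M g' r r' w' ((resOver g M m s hs).lTensor (Rg O g') z) = sres M k (mixMap g M g' p q w z) := by
  induction z using TensorProduct.induction_on with
  | zero => simp only [map_zero]
  | add z z' hz hz' => simp only [map_add, hz, hz']
  | tmul t v =>
    rw [LinearMap.lTensor_tmul, mixMap_tmul, mixMap_tmul]
    refine Eq.trans ?_ (sres_smul M k ((O.map q.op).hom t) (sres M p v)).symm
    have e1 : (O.map k.op).hom ((O.map q.op).hom t) = (O.map r'.op).hom t := by
      refine (DFunLike.congr_fun (congrArg CommRingCat.Hom.hom (O.map_comp q.op k.op)) t).symm.trans ?_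
      rw [← op_comp, hq]
    have e2 : sres M k (sres M p v) = sres M r (sres M s v) := by
      refine (sres_sres M p k v).trans (Eq.trans ?_ (sres_sres M s r v).symm)
      rw [hp]
    exact congrArg₂ (fun (a : O.obj (op Q')) (v : M.obj (op Q')) => a • v) e1.symm e2.symm

variable [J.HasSheafCompose (forget₂ CommRingCat.{w} RingCat.{w})]
  [J.HasSheafCompose (CategoryTheory.forget AddCommGrpCat.{w})] (R : Sheaf J CommRingCat.{w})

/-- The sheaf of rings underlying a sheaf of commutative rings. -/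
abbrev RS : Sheaf J RingCat.{w} := (sheafCompose J (forget₂ CommRingCat.{w} RingCat.{w})).obj R

variable {R} (M : SheafOfModules.{w} (RS R))

/-- The underlying presheaf of modules. -/
abbrev psh : PresheafOfModules.{w} (RR R.obj) := M.val

theorem isSheaf_types : Presieve.IsSheaf J (M.val.presheaf ⋙ CategoryTheory.forget AddCommGrpCat.{w}) :=
  (isSheaf_iff_isSheaf_of_type J _).1
    (GrothendieckTopology.HasSheafCompose.isSheaf (M.val.presheaf) M.isSheaf)

theorem sres_ext_of_mem {X : C} {S : Sieve X} (hS : S ∈ J X) (x y : (psh M).obj (op X))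
    (h : ∀ ⦃W : C⦄ (f : W ⟶ X), S f → sres (psh M) f x = sres (psh M) f y) : x = y :=
  ((isSheaf_types M) S hS).isSeparatedFor.ext h

theorem ext_of_ofArrows {X : C} {ι : Type*} {Z : ι → C} {m : ∀ i, Z i ⟶ X} (hS : Sieve.ofArrows Z m ∈ J X)
    (x y : (psh M).obj (op X)) (h : ∀ i, sres (psh M) (m i) x = sres (psh M) (m i) y) : x = y := by
  refine sres_ext_of_mem M hS x y fun W f hf => ?_
  obtain ⟨i, k, rfl⟩ := (Sieve.mem_ofArrows_iff _ _ _).1 hf
  rw [← sres_sres, ← sres_sres, h]

theorem exists_glue_sheaf {X : C} {ι : Type*} {Z : ι → C} {m : ∀ i, Z i ⟶ X} (hS : Sieve.ofArrows Z m ∈ J X)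
    (x : ∀ i, (psh M).obj (op (Z i)))
    (hx : ∀ ⦃W : C⦄ (i j : ι) (f : W ⟶ Z i) (g : W ⟶ Z j), f ≫ m i = g ≫ m j →
      sres (psh M) f (x i) = sres (psh M) g (x j)) :
    ∃ s : (psh M).obj (op X), ∀ i, sres (psh M) (m i) s = x i := by
  have h := (isSheaf_types M) _ hS
  rw [show Sieve.ofArrows Z m = Sieve.generate (Presieve.ofArrows Z m) from rfl,
    ← Presieve.isSheafFor_iff_generate, Presieve.isSheafFor_arrows_iff] at h
  obtain ⟨s, hs, -⟩ := h x fun i j W f g e => hx i j f g e
  exact ⟨s, hs⟩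

variable {b : AffBasis J R.obj}

/-- Locally cartesian: cartesian over each member of a covering family. -/
def AffBasis.IsCartLocal (b : AffBasis J R.obj) (M : SheafOfModules.{w} (RS R)) : Prop :=
  ∀ ⦃E : C⦄, b.aff E → ∃ S ∈ J E, ∀ ⦃W : C⦄ (f : W ⟶ E), S f → b.IsCartOver (psh M) W

/-- A locally cartesian sheaf is cartesian. -/
theorem AffBasis.IsCartLocal.isCart (h : b.IsCartLocal M) : b.IsCart (psh M) := by
  intro E E' hE hE' g
  obtain ⟨S, hS, hSc⟩ := h hE
  obtain ⟨c, hc⟩ := b.cover hE S hS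
  let A := R.obj.obj (op E)
  let B := Rg R.obj g
  haveI : Module.Flat A B := b.flat hE hE' g
  let Q : Fin c.n → C := fun j => b.prod hE (c.aff_Z j) hE' (c.m j) g
  let qZ : ∀ j, Q j ⟶ c.Z j := fun j => b.fst hE _ _ _ _
  let qE : ∀ j, Q j ⟶ E' := fun j => b.snd hE _ _ _ _
  have hQ : ∀ j, b.aff (Q j) := fun j => b.aff_prod hE _ _ _ _
  have sqQ : ∀ j, IsRingSq (O := R.obj) (c.m j) g (qZ j) (qE j) := fun j => b.isRingSq hE _ _ _ _
  have pbQ : ∀ j, IsPullback (qZ j) (qE j) (c.m j) g := fun j => b.isPullback hE _ _ _ _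
  have hmix : ∀ j, Function.Bijective (mixMap (c.m j) (psh M) g (qZ j) (qE j) (sqQ j).w) := fun j =>
    bijective_mixMap _ _ (sqQ j) (hSc _ (hc j) (c.aff_Z j) (hQ j) (𝟙 _) _)
  have hQcov : Sieve.ofArrows Q qE ∈ J E' := by
    refine J.superset_covering ?_ (J.pullback_stable g c.mem)
    intro W f hf
    obtain ⟨j, k, hk⟩ := (Sieve.mem_ofArrows_iff _ _ _).1 hf
    exact (Sieve.mem_ofArrows_iff _ _ _).2 ⟨j, (pbQ j).lift k f hk.symm, ((pbQ j).lift_snd _ _ _).symm⟩
  have key : ∀ (j : Fin c.n) (z : B ⊗[A] (psh M).obj (op E)),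
      sres (psh M) (qE j) (bcMap g (psh M) z) =
        mixMap (c.m j) (psh M) g (qZ j) (qE j) (sqQ j).w ((res (c.m j) (psh M)).lTensor B z) := fun j z => by
    induction z using TensorProduct.induction_on with
    | zero => simp only [map_zero]
    | add z z' hz hz' =>
      simp only [map_add]
      rw [← hz, ← hz']

    | tmul t v =>
      rw [LinearMap.lTensor_tmul, mixMap_tmul, bcMap_tmul]
      refine (sres_smul (psh M) (qE j) (show R.obj.obj (op E') from t) (sres (psh M) g v)).trans ?_
      refine congrArg (fun u : (psh M).obj (op (Q j)) => (R.obj.map (qE j).op).hom t • u) ?_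
      refine (sres_sres (psh M) g (qE j) v).trans (Eq.trans ?_ (sres_sres (psh M) (c.m j) (qZ j) v).symm)
      rw [(sqQ j).w]
  let d : (psh M).obj (op E) →ₗ[A] ∀ j, Sec (psh M) (c.m j) := LinearMap.pi fun j => res (c.m j) (psh M)
  have hd : ∀ (z : B ⊗[A] (psh M).obj (op E)) j,
      TensorProduct.piRight A A B (fun j => Sec (psh M) (c.m j)) (d.lTensor B z) j =
        (res (c.m j) (psh M)).lTensor B z := fun z j => by
    induction z using TensorProduct.induction_on with
    | zero => simp
    | add z z' hz hz' => simp only [map_add, Pi.add_apply, hz, hz']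
    | tmul t v => rfl
  refine ⟨(injective_iff_map_eq_zero _).2 fun z hz => ?_, fun y => ?_⟩
  · have dinj : Function.Injective d := fun x x' hx => ext_of_ofArrows M c.mem x x' fun j => congrFun hx j
    refine Module.Flat.lTensor_preserves_injective_linearMap d dinj ?_
    rw [map_zero]
    refine (TensorProduct.piRight A A B fun j => Sec (psh M) (c.m j)).injective (funext fun j => ?_)
    rw [hd, map_zero, Pi.zero_apply]
    refine (hmix j).1 ?_
    rw [← key, hz, map_zero]
    exact (map_zero (mixMap (c.m j) (psh M) g (qZ j) (qE j) (sqQ j).w)).symm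
  · let P : Fin c.n × Fin c.n → C := fun ij => b.prod hE (c.aff_Z ij.1) (c.aff_Z ij.2) (c.m ij.1) (c.m ij.2)
    let p : ∀ ij, P ij ⟶ c.Z ij.1 := fun ij => b.fst hE _ _ _ _
    let q : ∀ ij, P ij ⟶ c.Z ij.2 := fun ij => b.snd hE _ _ _ _
    have hP : ∀ ij, b.aff (P ij) := fun ij => b.aff_prod hE _ _ _ _
    have hpb : ∀ ij, IsPullback (p ij) (q ij) (c.m ij.1) (c.m ij.2) := fun ij => b.isPullback hE _ _ _ _
    let m : ∀ ij, P ij ⟶ E := fun ij => p ij ≫ c.m ij.1
    let δ : (∀ i, Sec (psh M) (c.m i)) →ₗ[A] ∀ ij, Sec (psh M) (m ij) := LinearMap.pi fun ij =>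
      resOver (c.m ij.2) (psh M) (m ij) (q ij) (hpb ij).w.symm ∘ₗ LinearMap.proj ij.2 -
        resOver (c.m ij.1) (psh M) (m ij) (p ij) rfl ∘ₗ LinearMap.proj ij.1
    have hex : Function.Exact d δ := fun x => by
      constructor
      · intro hx
        obtain ⟨s, hs⟩ := exists_glue_sheaf M c.mem (fun i => x i) fun W i j f f' e => by
          have h0 : sres (psh M) (q (i, j)) (x j) = sres (psh M) (p (i, j)) (x i) := sub_eq_zero.1 (congrFun hx (i, j))
          have h1 := congrArg (sres (psh M) ((hpb (i, j)).lift f f' e)) h0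
          rw [sres_sres, sres_sres, (hpb (i, j)).lift_fst, (hpb (i, j)).lift_snd] at h1
          exact h1.symm
        exact ⟨s, funext hs⟩
      · rintro ⟨s, rfl⟩
        refine funext fun ij => sub_eq_zero.2 ?_
        exact (resOver_res (c.m ij.2) (psh M) (m ij) (q ij) (hpb ij).w.symm s).trans
          (resOver_res (c.m ij.1) (psh M) (m ij) (p ij) rfl s).symm
    choose x hx using fun j => (hmix j).2 (sres (psh M) (qE j) y)
    let z₀ := (TensorProduct.piRight A A B fun j => Sec (psh M) (c.m j)).symm x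
    obtain ⟨z, hz⟩ := (Module.Flat.lTensor_exact B hex z₀).1
      ((TensorProduct.piRight A A B fun ij => Sec (psh M) (m ij)).injective (funext fun ij => by
        have hcomp : ∀ z : B ⊗[A] (∀ i, Sec (psh M) (c.m i)),
            TensorProduct.piRight A A B (fun ij => Sec (psh M) (m ij)) (δ.lTensor B z) ij =
              (resOver (c.m ij.2) (psh M) (m ij) (q ij) (hpb ij).w.symm).lTensor B
                  (TensorProduct.piRight A A B (fun i => Sec (psh M) (c.m i)) z ij.2) -
                (resOver (c.m ij.1) (psh M) (m ij) (p ij) rfl).lTensor B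
                  (TensorProduct.piRight A A B (fun i => Sec (psh M) (c.m i)) z ij.1) := fun z => by
          induction z using TensorProduct.induction_on with
          | zero => simp
          | add z z' hz hz' => simp only [map_add, Pi.add_apply, hz, hz']; abel
          | tmul t v =>
            simp only [LinearMap.lTensor_tmul, TensorProduct.piRight_apply, TensorProduct.piRightHom_tmul]
            refine Eq.trans ?_ (TensorProduct.tmul_sub _ _ _)
            rfl
        rw [hcomp, LinearEquiv.apply_symm_apply, map_zero, Pi.zero_apply]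
        let sq := b.isRingSq hE (hP ij) hE' (m ij) g
        let r := b.fst hE (hP ij) hE' (m ij) g
        let r' := b.snd hE (hP ij) hE' (m ij) g
        have hQ' := b.aff_prod hE (hP ij) hE' (m ij) g
        refine (bijective_mixMap (m ij) (psh M) sq
          (hSc _ (hc ij.1) (hP ij) hQ' (p ij) _)).1 ?_
        have hi : (r ≫ p ij) ≫ c.m ij.1 = r' ≫ g := by rw [Category.assoc]; exact sq.w
        have hj : (r ≫ q ij) ≫ c.m ij.2 = r' ≫ g := by rw [Category.assoc, ← (hpb ij).w]; exact sq.w
        rw [map_sub, map_zero,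
          mixMap_resOver (psh M) (sqQ ij.2).w sq.w (q ij) (hpb ij).w.symm ((pbQ ij.2).lift (r ≫ q ij) r' hj)
            ((pbQ ij.2).lift_fst _ _ _) ((pbQ ij.2).lift_snd _ _ _),
          mixMap_resOver (psh M) (sqQ ij.1).w sq.w (p ij) rfl ((pbQ ij.1).lift (r ≫ p ij) r' hi)
            ((pbQ ij.1).lift_fst _ _ _) ((pbQ ij.1).lift_snd _ _ _),
          hx, hx, sres_sres, sres_sres, (pbQ ij.1).lift_snd, (pbQ ij.2).lift_snd, sub_self]))
    refine ⟨z, ext_of_ofArrows M hQcov _ _ fun j => ?_⟩
    rw [key, ← hd, hz, LinearEquiv.apply_symm_apply, hx]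

end Groth.Agent.QCart
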