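import Groth.Agent.QCart.Exact

/-!
# The largest cartesian submodule
-/

universe w v₁

set_option autoImplicit false
set_option linter.style.haveILetI false
set_option linter.unusedSectionVars false
set_option backward.isDefEq.respectTransparency false
set_option backward.isDefEq.respectTransparency.types false

open CategoryTheory CategoryTheory.Limits Opposite

namespace Groth.Agent.QCart

variable {C : Type w} [Category.{v₁} C] {J : GrothendieckTopology C}
  [J.HasSheafCompose (forget₂ CommRingCat.{w} RingCat.{w})]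
  [J.HasSheafCompose (CategoryTheory.forget AddCommGrpCat.{w})]
  [HasSheafify J AddCommGrpCat.{w}] [J.WEqualsLocallyBijective AddCommGrpCat.{w}]
  {R : Sheaf J CommRingCat.{w}} {b : AffBasis J R.obj}

theorem mono_desc_kernel {A : Type*} [Category A] [Abelian A] {P G F : A} (ψ : P ⟶ G) (ι : G ⟶ F) [Mono ι]
    (hc : Limits.kernel.ι (ψ ≫ ι) ≫ ψ = 0) : Mono (cokernel.desc _ ψ hc) := by
  have e : cokernel.desc _ ψ hc ≫ ι = Abelian.factorThruCoimage (ψ ≫ ι) :=
    coequalizer.hom_ext (by simp [Abelian.factorThruCoimage])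
  exact mono_of_mono_fac e

set_option maxHeartbeats 2000000 in
/-- A submodule of a cartesian module has a largest cartesian submodule. -/
theorem AffBasis.IsCart.exists_largest {F G : SheafOfModules.{w} (RS R)} (hF : b.IsCart (psh F)) (ι : G ⟶ F)
    [Mono ι] : ∃ (G' : SheafOfModules.{w} (RS R)) (κ : G' ⟶ G), Mono κ ∧ b.IsCart (psh G') ∧
      ∀ H : SheafOfModules.{w} (RS R), b.IsCart (psh H) → Function.Bijective (fun φ : H ⟶ G' => φ ≫ κ) := by
  let I : Type w := { p : Σ E : C, ((psh G).obj (op E) : Type w) //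
    ∃ (H : SheafOfModules.{w} (RS R)) (φ : H ⟶ G), b.IsCart (psh H) ∧ p.2 ∈ Set.range ((phom φ).app (op p.1)) }
  choose H φ hH hr using fun i : I => i.2
  let ψ : (∐ H) ⟶ G := Sigma.desc φ
  have hP : b.IsCart (psh (∐ H)) :=
    b.isCart_colimit_sheaf (Discrete.functor H) (colimit.cocone (Discrete.functor H))
      (colimit.isColimit (Discrete.functor H)) fun i => hH i.as
  have hK := hP.kernel (ψ ≫ ι) hF
  have hc : Limits.kernel.ι (ψ ≫ ι) ≫ ψ = 0 := by
    rw [← cancel_mono ι, Category.assoc, kernel.condition, zero_comp]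
  let κ : Limits.cokernel (Limits.kernel.ι (ψ ≫ ι)) ⟶ G := cokernel.desc _ ψ hc
  have hfac : cokernel.π (Limits.kernel.ι (ψ ≫ ι)) ≫ κ = ψ := cokernel.π_desc _ _ _
  haveI hκ : Mono κ := mono_desc_kernel ψ ι hc
  have hψπ : ψ ≫ cokernel.π κ = 0 :=
    (congrArg (· ≫ cokernel.π κ) hfac).symm.trans
      ((Category.assoc _ _ _).trans ((congrArg (_ ≫ ·) (cokernel.condition κ)).trans comp_zero))
  have hzero : ∀ i : I, φ i ≫ cokernel.π κ = 0 := fun i => by
    have hd : Sigma.ι H i ≫ ψ = φ i := Sigma.ι_desc φ i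
    exact (congrArg (· ≫ cokernel.π κ) hd).symm.trans
      ((Category.assoc _ _ _).trans ((congrArg (Sigma.ι H i ≫ ·) hψπ).trans comp_zero))
  have key : ∀ (i : I), (phom (cokernel.π κ)).app (op i.1.1) i.1.2 = 0 := fun i => by
    obtain ⟨y, hy⟩ := Set.mem_range.1 (hr i)
    rw [← hy]
    exact congrArg (fun k : H i ⟶ Limits.cokernel κ => (phom k).app (op i.1.1) y) (hzero i)
  refine ⟨_, κ, hκ, hK.cokernel _ hP, fun H' hH' => ⟨fun a a' h => (cancel_mono κ).1 h, fun χ => ?_⟩⟩
  have h0 : χ ≫ cokernel.π κ = 0 := by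
    refine SheafOfModules.Hom.ext (PresheafOfModules.hom_ext fun W => ModuleCat.hom_ext (LinearMap.ext fun x => ?_))
    exact key ⟨⟨W.unop, (phom χ).app W x⟩, H', χ, hH', ⟨x, rfl⟩⟩
  exact ⟨Abelian.monoLift κ χ h0, Abelian.monoLift_comp _ _ _⟩

end Groth.Agent.QCart
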