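import Groth.Agent.QCart.Sec
import Mathlib.CategoryTheory.Sites.CoversTop.Basic
import Mathlib.CategoryTheory.Limits.Shapes.Pullback.IsPullback.Basic

/-!
# Sites with a basis of affine objects, cartesian presheaves of modules and their Cech exactness
-/

universe w v₁ u₁

set_option autoImplicit false
set_option linter.style.haveILetI false
set_option backward.isDefEq.respectTransparency false
set_option backward.isDefEq.respectTransparency.types false

open CategoryTheory Opposite TensorProduct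

namespace Groth.Agent.QCart

variable {C : Type u₁} [Category.{v₁} C] (J : GrothendieckTopology C) (O : Cᵒᵖ ⥤ CommRingCat.{w})

/-- A finite covering family of an affine object by affine objects. -/
structure Cover (aff : C → Prop) (E : C) where
  n : ℕ
  Z : Fin n → C
  m : ∀ i, Z i ⟶ E
  aff_Z : ∀ i, aff (Z i)
  mem : Sieve.ofArrows Z m ∈ J E
  ff : ∀ (N : Type w) [AddCommGroup N] [Module (O.obj (op E)) N] (x : N),
    (∀ i, (1 : Rg O (m i)) ⊗ₜ[O.obj (op E)] x = 0) → x = 0

/-- A class of affine objects on a site: covers of affine objects have finite refinements which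
are faithfully flat, fibre products of affine objects are affine and give pushouts of rings. -/
structure AffBasis where
  aff : C → Prop
  flat : ∀ {E E' : C}, aff E → aff E' → ∀ g : E' ⟶ E, Module.Flat (O.obj (op E)) (Rg O g)
  dense : ∀ X : C, Sieve.generate (fun W (_ : W ⟶ X) => aff W) ∈ J X
  pb : ∀ {E Z Z' : C}, aff E → aff Z → aff Z' → ∀ (g : Z ⟶ E) (g' : Z' ⟶ E),
    ∃ (P : C) (p : P ⟶ Z) (q : P ⟶ Z'), aff P ∧ IsPullback p q g g' ∧ IsRingSq (O := O) g g' p q
  cover : ∀ {E : C}, aff E → ∀ S ∈ J E, ∃ c : Cover J O aff E, ∀ i, S (c.m i)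

variable {J O}

namespace AffBasis

variable (b : AffBasis J O)

/-- The chosen affine fibre product. -/
noncomputable def prod {E Z Z' : C} (hE : b.aff E) (hZ : b.aff Z) (hZ' : b.aff Z') (g : Z ⟶ E)
    (g' : Z' ⟶ E) : C := (b.pb hE hZ hZ' g g').choose

variable {E Z Z' : C} (hE : b.aff E) (hZ : b.aff Z) (hZ' : b.aff Z') (g : Z ⟶ E) (g' : Z' ⟶ E)

noncomputable def fst : b.prod hE hZ hZ' g g' ⟶ Z := (b.pb hE hZ hZ' g g').choose_spec.choose

noncomputable def snd : b.prod hE hZ hZ' g g' ⟶ Z' :=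
  (b.pb hE hZ hZ' g g').choose_spec.choose_spec.choose

theorem aff_prod : b.aff (b.prod hE hZ hZ' g g') :=
  (b.pb hE hZ hZ' g g').choose_spec.choose_spec.choose_spec.1

theorem isPullback : IsPullback (b.fst hE hZ hZ' g g') (b.snd hE hZ hZ' g g') g g' :=
  (b.pb hE hZ hZ' g g').choose_spec.choose_spec.choose_spec.2.1

theorem isRingSq : IsRingSq (O := O) g g' (b.fst hE hZ hZ' g g') (b.snd hE hZ hZ' g g') :=
  (b.pb hE hZ hZ' g g').choose_spec.choose_spec.choose_spec.2.2

/-- A presheaf of modules is cartesian if it is cartesian along every map of affine objects. -/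
def IsCart (M : PresheafOfModules.{w} (RR O)) : Prop :=
  ∀ ⦃E E' : C⦄, b.aff E → b.aff E' → ∀ g : E' ⟶ E, Cart g M

/-- Cartesian on the affine objects with a map to `U`. -/
def IsCartOver (M : PresheafOfModules.{w} (RR O)) (U : C) : Prop :=
  ∀ ⦃E E' : C⦄, b.aff E → b.aff E' → (E ⟶ U) → ∀ g : E' ⟶ E, Cart g M

end AffBasis

section Descent

variable {aff : C → Prop} {E : C} (c : Cover J O aff E)

/-- An element is in the range as soon as it is so after every base change of a cover. -/
theorem mem_range_of_cover {N N' : Type w} [AddCommGroup N] [Module (O.obj (op E)) N] [AddCommGroup N']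
    [Module (O.obj (op E)) N'] (d : N →ₗ[O.obj (op E)] N') (x : N')
    (h : ∀ i, (1 : Rg O (c.m i)) ⊗ₜ[O.obj (op E)] x ∈ LinearMap.range (d.lTensor (Rg O (c.m i)))) :
    x ∈ LinearMap.range d := by
  rw [← Submodule.Quotient.mk_eq_zero (LinearMap.range d)]
  refine c.ff _ _ fun i => ?_
  obtain ⟨z, hz⟩ := h i
  have := congrArg ((LinearMap.range d).mkQ.lTensor (Rg O (c.m i))) hz
  rw [← LinearMap.comp_apply, ← LinearMap.lTensor_comp, LinearMap.range_mkQ_comp, LinearMap.lTensor_zero,
    LinearMap.zero_apply] at this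
  simpa using this.symm

end Descent

variable {b : AffBasis J O} {E : C} (hE : b.aff E) (c : Cover J O b.aff E)

/-- Compatible families on a cover. -/
def Compatible (M : PresheafOfModules.{w} (RR O)) (x : ∀ i, M.obj (op (c.Z i))) : Prop :=
  ∀ ⦃W : C⦄ (i j : Fin c.n) (f : W ⟶ c.Z i) (g : W ⟶ c.Z j), b.aff W → f ≫ c.m i = g ≫ c.m j →
    sres M f (x i) = sres M g (x j)

namespace AffBasis.IsCart

variable {M : PresheafOfModules.{w} (RR O)} (hM : b.IsCart M)
include hE hM

/-- Restriction to a cover of an affine object is injective. -/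
theorem eq_zero_of_res (x : M.obj (op E)) (h : ∀ i, sres M (c.m i) x = 0) : x = 0 := by
  refine c.ff _ x fun i => (hM hE (c.aff_Z i) (c.m i)).1 ?_
  rw [bcMap_tmul, one_smul, map_zero]
  exact h i

theorem ext_of_res (x y : M.obj (op E)) (h : ∀ i, sres M (c.m i) x = sres M (c.m i) y) : x = y :=
  sub_eq_zero.1 (hM.eq_zero_of_res hE c _ fun i => by
    rw [map_sub]
    exact sub_eq_zero.2 (h i))

/-- Sections on a cover which agree on overlaps glue. -/
theorem exists_glue (x : ∀ i, M.obj (op (c.Z i))) (hx : Compatible c M x) :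
    ∃ s : M.obj (op E), ∀ i, sres M (c.m i) s = x i := by
  let A := O.obj (op E)
  let d : M.obj (op E) →ₗ[A] ∀ i, Sec M (c.m i) := LinearMap.pi fun i => res (c.m i) M
  obtain ⟨s, hs⟩ := mem_range_of_cover c d (fun i => toSec _ M (x i)) fun l => by
    let B := Rg O (c.m l)
    obtain ⟨z, hz⟩ := (hM hE (c.aff_Z l) (c.m l)).2 (toSec _ M (x l))
    refine ⟨z, (TensorProduct.piRight A A B fun i => Sec M (c.m i)).injective (funext fun i => ?_)⟩
    let sq := b.isRingSq hE (c.aff_Z i) (c.aff_Z l) (c.m i) (c.m l)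
    let hP := b.aff_prod hE (c.aff_Z i) (c.aff_Z l) (c.m i) (c.m l)
    refine (bijective_mixMap (c.m i) M sq (hM (c.aff_Z i) hP _)).1 ?_
    let p := b.fst hE (c.aff_Z i) (c.aff_Z l) (c.m i) (c.m l)
    let q := b.snd hE (c.aff_Z i) (c.aff_Z l) (c.m i) (c.m l)
    have key : ∀ z : B ⊗[A] M.obj (op E),
        mixMap (c.m i) M (c.m l) p q sq.w (TensorProduct.piRight A A B (fun i => Sec M (c.m i)) (d.lTensor B z) i) =
          sres M q (bcMap (c.m l) M z) := fun z => by
      induction z using TensorProduct.induction_on with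
      | zero =>
        rw [map_zero, map_zero, Pi.zero_apply, map_zero, map_zero]
        exact (map_zero (sres M q)).symm
      | add y y' hy hy' =>
        rw [map_add, map_add, Pi.add_apply, map_add, hy, hy', map_add]
        exact (map_add (sres M q) _ _).symm
      | tmul r s =>
        rw [LinearMap.lTensor_tmul, TensorProduct.piRight_apply, TensorProduct.piRightHom_tmul]
        show _ = sres M q ((bcMap (c.m l) M) (r ⊗ₜ s))
        rw [bcMap_tmul]
        refine (mixMap_tmul _ _ _ _ _ _ _ _).trans ?_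
        refine Eq.trans ?_ (sres_smul M q (show O.obj (op (c.Z l)) from r) (sres M (c.m l) s)).symm
        refine congrArg (fun t => (O.map q.op).hom r • t) ?_
        exact (sres_sres M (c.m i) p s).trans ((congrArg (fun f => sres M f s) sq.w).trans
          (sres_sres M (c.m l) q s).symm)
    rw [key, hz, TensorProduct.piRight_apply, TensorProduct.piRightHom_tmul, mixMap_one_tmul]
    exact (hx i l p q hP sq.w).symm
  exact ⟨s, fun i => congrFun hs i⟩

end AffBasis.IsCart

/-- Additive Cech cocycles of degree one on a cover, on all affine objects. -/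
structure Cocycle (M : PresheafOfModules.{w} (RR O)) where
  val : ∀ ⦃W : C⦄ (i j : Fin c.n) (f : W ⟶ c.Z i) (g : W ⟶ c.Z j), b.aff W → f ≫ c.m i = g ≫ c.m j →
    M.obj (op W)
  natural : ∀ ⦃W W' : C⦄ (i j : Fin c.n) (f : W ⟶ c.Z i) (g : W ⟶ c.Z j) (hW : b.aff W)
    (h : f ≫ c.m i = g ≫ c.m j) (k : W' ⟶ W) (hW' : b.aff W'),
    sres M k (val i j f g hW h) =
      val i j (k ≫ f) (k ≫ g) hW' (by rw [Category.assoc, Category.assoc, h])
  cocycle : ∀ ⦃W : C⦄ (i j l : Fin c.n) (f : W ⟶ c.Z i) (g : W ⟶ c.Z j) (k : W ⟶ c.Z l) (hW : b.aff W)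
    (h : f ≫ c.m i = g ≫ c.m j) (h' : g ≫ c.m j = k ≫ c.m l),
    val i l f k hW (h.trans h') = val i j f g hW h + val j l g k hW h'

/-- Cocycles of degree one of a cartesian presheaf are coboundaries. -/
theorem AffBasis.IsCart.exists_coboundary {M : PresheafOfModules.{w} (RR O)} (hM : b.IsCart M)
    (hE : b.aff E) (d : Cocycle c M) :
    ∃ y : ∀ i, M.obj (op (c.Z i)), ∀ ⦃W : C⦄ (i j : Fin c.n) (f : W ⟶ c.Z i) (g : W ⟶ c.Z j)
      (hW : b.aff W) (h : f ≫ c.m i = g ≫ c.m j),
      d.val i j f g hW h = sres M g (y j) - sres M f (y i) := by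
  let A := O.obj (op E)
  let P : Fin c.n × Fin c.n → C := fun ij => b.prod hE (c.aff_Z ij.1) (c.aff_Z ij.2) (c.m ij.1) (c.m ij.2)
  let p : ∀ ij, P ij ⟶ c.Z ij.1 := fun ij => b.fst hE _ _ _ _
  let q : ∀ ij, P ij ⟶ c.Z ij.2 := fun ij => b.snd hE _ _ _ _
  have hP : ∀ ij, b.aff (P ij) := fun ij => b.aff_prod hE _ _ _ _
  have hpb : ∀ ij, IsPullback (p ij) (q ij) (c.m ij.1) (c.m ij.2) := fun ij => b.isPullback hE _ _ _ _
  let m : ∀ ij, P ij ⟶ E := fun ij => p ij ≫ c.m ij.1
  let δ : (∀ i, Sec M (c.m i)) →ₗ[A] ∀ ij, Sec M (m ij) := LinearMap.pi fun ij =>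
    resOver (c.m ij.2) M (m ij) (q ij) (hpb ij).w.symm ∘ₗ LinearMap.proj ij.2 -
      resOver (c.m ij.1) M (m ij) (p ij) rfl ∘ₗ LinearMap.proj ij.1
  let D : ∀ ij, Sec M (m ij) := fun ij => toSec _ M (d.val ij.1 ij.2 (p ij) (q ij) (hP ij) (hpb ij).w)
  obtain ⟨y, hy⟩ := mem_range_of_cover c δ D fun l => by
    let B := Rg O (c.m l)
    -- the section `d(l, j)` on the product of `Z l` and `Z j`, as an element of `B ⊗ M (Z j)`
    have hsq : ∀ j, IsRingSq (O := O) (c.m j) (c.m l) (q (l, j)) (p (l, j)) := fun j =>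
      (b.isRingSq hE _ _ _ _).flip
    choose x hx using fun j => (bijective_mixMap (c.m j) M (hsq j) (hM (c.aff_Z j) (hP (l, j)) _)).2
      (d.val l j (p (l, j)) (q (l, j)) (hP (l, j)) (hpb (l, j)).w)
    refine ⟨(TensorProduct.piRight A A B fun i => Sec M (c.m i)).symm x,
      (TensorProduct.piRight A A B fun ij => Sec M (m ij)).injective (funext fun ij => ?_)⟩
    -- the triple product
    let sq := b.isRingSq hE (hP ij) (c.aff_Z l) (m ij) (c.m l)
    let hQ := b.aff_prod hE (hP ij) (c.aff_Z l) (m ij) (c.m l)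
    let r := b.fst hE (hP ij) (c.aff_Z l) (m ij) (c.m l)
    let r' := b.snd hE (hP ij) (c.aff_Z l) (m ij) (c.m l)
    refine (bijective_mixMap (m ij) M sq (hM (hP ij) hQ _)).1 ?_
    have hi : r' ≫ c.m l = (r ≫ p ij) ≫ c.m ij.1 := by rw [Category.assoc]; exact sq.w.symm
    have hj : r' ≫ c.m l = (r ≫ q ij) ≫ c.m ij.2 := by rw [Category.assoc, ← (hpb ij).w]; exact sq.w.symm
    have step : ∀ (j : Fin c.n) (s : P ij ⟶ c.Z j) (hs : s ≫ c.m j = m ij) (h : r' ≫ c.m l = (r ≫ s) ≫ c.m j)
        (z : B ⊗[A] Sec M (c.m j)),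
        mixMap (m ij) M (c.m l) r r' sq.w ((resOver (c.m j) M (m ij) s hs).lTensor B z) =
          sres M ((hpb (l, j)).lift r' (r ≫ s) h)
            (mixMap (c.m j) M (c.m l) (q (l, j)) (p (l, j)) (hsq j).w z) := fun j s hs h z => by
      induction z using TensorProduct.induction_on with
      | zero => rw [map_zero, map_zero, map_zero]; exact (map_zero (sres M _)).symm
      | add z z' hz hz' =>
        rw [map_add, map_add, hz, hz', map_add]
        exact (map_add (sres M _) _ _).symm
      | tmul t v =>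
        rw [LinearMap.lTensor_tmul, mixMap_tmul, mixMap_tmul]
        refine Eq.trans ?_ (sres_smul M ((hpb (l, j)).lift r' (r ≫ s) h) ((O.map (p (l, j)).op).hom t)
          (sres M (q (l, j)) v)).symm
        have e1 : (O.map ((hpb (l, j)).lift r' (r ≫ s) h).op).hom ((O.map (p (l, j)).op).hom t) =
            (O.map r'.op).hom t := by
          refine (DFunLike.congr_fun (congrArg CommRingCat.Hom.hom (O.map_comp (p (l, j)).op ((hpb (l, j)).lift r' (r ≫ s) h).op)) t).symm.trans ?_
          rw [← op_comp, (hpb (l, j)).lift_fst]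
        have e2 : sres M ((hpb (l, j)).lift r' (r ≫ s) h) (sres M (q (l, j)) v) = sres M r (sres M s v) := by
          refine (sres_sres M _ _ v).trans (Eq.trans ?_ (sres_sres M s r v).symm)
          rw [(hpb (l, j)).lift_snd]
        exact congrArg₂ (fun (a : O.obj (op _)) (v : M.obj (op _)) => a • v) e1.symm e2.symm
    have hcomp : ∀ z : B ⊗[A] (∀ i, Sec M (c.m i)),
        TensorProduct.piRight A A B (fun ij => Sec M (m ij)) (δ.lTensor B z) ij =
          (resOver (c.m ij.2) M (m ij) (q ij) (hpb ij).w.symm).lTensor B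
              (TensorProduct.piRight A A B (fun i => Sec M (c.m i)) z ij.2) -
            (resOver (c.m ij.1) M (m ij) (p ij) rfl).lTensor B
              (TensorProduct.piRight A A B (fun i => Sec M (c.m i)) z ij.1) := fun z => by
      induction z using TensorProduct.induction_on with
      | zero => simp
      | add z z' hz hz' => simp only [map_add, Pi.add_apply, hz, hz']; abel
      | tmul t v =>
        simp only [LinearMap.lTensor_tmul, TensorProduct.piRight_apply, TensorProduct.piRightHom_tmul]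
        refine Eq.trans ?_ (TensorProduct.tmul_sub _ _ _)
        rfl
    rw [hcomp, LinearEquiv.apply_symm_apply, map_sub, step _ _ _ hj, step _ _ _ hi, hx, hx,
      TensorProduct.piRight_apply, TensorProduct.piRightHom_tmul, mixMap_one_tmul]
    rw [d.natural l ij.2 _ _ _ _ _ hQ, d.natural l ij.1 _ _ _ _ _ hQ]
    refine Eq.trans ?_ (d.natural ij.1 ij.2 _ _ _ _ r hQ).symm
    simp only [(hpb (l, ij.1)).lift_fst, (hpb (l, ij.1)).lift_snd, (hpb (l, ij.2)).lift_fst,
      (hpb (l, ij.2)).lift_snd]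
    rw [d.cocycle l ij.1 ij.2 r' (r ≫ p ij) (r ≫ q ij) hQ hi (by rw [← hi]; exact hj)]
    abel
  refine ⟨y, fun W i j f g hW h => ?_⟩
  have h0 : d.val i j (p (i, j)) (q (i, j)) (hP (i, j)) (hpb (i, j)).w =
      sres M (q (i, j)) (y j) - sres M (p (i, j)) (y i) := (congrFun hy (i, j)).symm
  have h1 := congrArg (sres M ((hpb (i, j)).lift f g h)) h0
  rw [d.natural i j _ _ _ _ _ hW, map_sub] at h1
  simp only [(hpb (i, j)).lift_fst, (hpb (i, j)).lift_snd] at h1
  refine h1.trans ?_
  rw [sres_sres, sres_sres, (hpb (i, j)).lift_fst, (hpb (i, j)).lift_snd]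

end Groth.Agent.QCart
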