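import Groth.Agent.QCart.EtRestrict
import Groth.Agent.QCart.ProjDescent
import Groth.Prelude.Def_AlgSpModX

/-!
# Sections over affine opens of charts
-/

universe u

set_option autoImplicit false
set_option linter.style.haveILetI false
set_option backward.isDefEq.respectTransparency false
set_option backward.isDefEq.respectTransparency.types false

open CategoryTheory CategoryTheory.Limits AlgebraicGeometry Opposite TensorProduct AlgSp

namespace Groth.Agent.QCart

open Groth.Agent.AlgSpDec (etOpen etOpenι PostcompSite.isContinuous)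
open Groth.Agent.AlgSpDec

variable {S : Scheme.{u}} {X : Sp S}

/-- The module of sections over an object is projective. -/
def ProjAt (F : ModEt X) (E : EtOver X) : Prop :=
  Module.Projective ((OEt X).obj.obj (op E)) ((psh (R := OEt X) F).obj (op E))

set_option maxHeartbeats 1600000 in
/-- The sections of a pullback along an etale chart over an open are those of the module. -/
theorem projAt_iff_companion (F : ModEt X) {V : Over S} (q : (yon S).obj V ⟶ X) (hrep : Representable q)
    (hq : RepWith @Etale q) [(SheafOfModules.pushforward.{u + 1} (bcRingHom hrep)).IsRightAdjoint]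
    (G : V.left.Modules) (c : ZarCompanion V.left G ((resSchModEt V).obj ((pullModEt hrep).obj F)))
    (W : V.left.Opens) :
    Module.Projective (V.left.ringCatSheaf.obj.obj (op W)) (G.val.obj (op W)) ↔
      ProjAt F (etOpen (EtOver.mk q hq) W) := by
  have hf := isEtaleMor_of_repWith q hq
  haveI := PostcompSite.isContinuous q hf
  let e := ((EtPullRestrict.modAdj hrep hf).leftAdjointUniq (pullPushAdjModEt hrep)).app F
  let A : EtOver ((yon S).obj V) := (EtOver.ofScheme V).obj (etaleOfOpen V.left W)
  let E : EtOver X := etOpen (EtOver.mk q hq) W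
  let k : (EtOver.postcomp q hf).obj A ⟶ E := EtOver.homMk (𝟙 _) (by
    rw [CategoryTheory.Functor.map_id, Category.id_comp]
    show _ ≫ q = ((yon S).map _ ≫ 𝟙 _) ≫ q
    rw [Category.comp_id]
    rfl)
  haveI : IsIso k := ⟨EtOver.homMk (𝟙 _) (by
    rw [CategoryTheory.Functor.map_id, Category.id_comp]
    show ((yon S).map _ ≫ 𝟙 _) ≫ q = _ ≫ q
    rw [Category.comp_id]
    rfl), EtOver.hom_ext _ _ (Category.id_comp _), EtOver.hom_ext _ _ (Category.id_comp _)⟩
  let P := psh (R := OEt X) F
  let he : (psh (R := OEt ((yon S).obj V)) (restrictMod hf F)).obj (op A) →+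
      (psh (R := OEt ((yon S).obj V)) ((pullModEt hrep).obj F)).obj (op A) :=
    AddMonoidHom.mk' (fun x => (phom (R := OEt ((yon S).obj V)) e.hom).app (op A) x)
      fun x y => map_add ((phom (R := OEt ((yon S).obj V)) e.hom).app (op A)).hom x y
  have he_bij : Function.Bijective he := by
    have : IsIso ((phom (R := OEt ((yon S).obj V)) e.hom).app (op A)) :=
      inferInstanceAs (IsIso ((SheafOfModules.evaluation _ (op A)).map e.hom))
    exact ConcreteCategory.bijective_of_isIso ((phom (R := OEt ((yon S).obj V)) e.hom).app (op A))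
  let Φ : P.obj (op E) → G.val.obj (op W) := fun x => (c.iso W (he (sres P k x))).down
  have hΦ : Function.Bijective Φ := by
    refine (Equiv.ulift.bijective.comp ((c.iso W).bijective.comp (he_bij.comp ?_)) :)
    refine Function.bijective_iff_has_inverse.2 ⟨fun y => sres P (inv k) y, fun x => ?_, fun y => ?_⟩
    · exact (sres_sres P k (inv k) x).trans (by rw [IsIso.inv_hom_id, sres_id])
    · exact (sres_sres P (inv k) k y).trans (by rw [IsIso.hom_inv_id, sres_id])
  let σ : (OEt X).obj.obj (op E) ≃+* V.left.ringCatSheaf.obj.obj (op W) :=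
    (ULift.ringEquiv (R := Γ(W.toScheme, ⊤))).trans W.topIso.commRingCatIsoToRingEquiv
  have hsmul : ∀ (a : (OEt X).obj.obj (op E)) (x : P.obj (op E)), Φ (a • x) = σ a • Φ x := fun a x => by
    show (c.iso W (he (sres P k (a • x)))).down = σ a • Φ x
    rw [sres_smul P k a x]
    have h1 : he (((OEt X).obj.map k.op).hom a • sres P k x) =
        (show (OEt ((yon S).obj V)).obj.obj (op A) from ((OEt X).obj.map k.op).hom a) • he (sres P k x) := by
      refine Eq.trans (congrArg he ((restrictMod_smul hf F A _ _).symm :)) ?_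
      exact app_smul' (phom (R := OEt ((yon S).obj V)) e.hom) _ _
    rw [h1]
    have h2 : (show (OEtSchRing V.left).obj.obj (op (etaleOfOpen V.left W)) from ((OEt X).obj.map k.op).hom a) =
        ULift.up (W.topIso.inv (σ a)) := by
      obtain ⟨a⟩ := a
      show ULift.up _ = ULift.up (W.topIso.inv (W.topIso.hom a))
      rw [← CommRingCat.comp_apply, Iso.hom_inv_id]
      rfl
    have h3 := c.map_smul W (σ a) (he (sres P k x))
    rw [← h2] at h3
    exact congrArg ULift.down h3
  haveI := RingHomInvPair.of_ringEquiv σ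
  haveI := RingHomInvPair.symm (σ : (OEt X).obj.obj (op E) →+* V.left.ringCatSheaf.obj.obj (op W)) (σ.symm : _ →+* _)
  let L : P.obj (op E) ≃ₛₗ[(σ : (OEt X).obj.obj (op E) →+* V.left.ringCatSheaf.obj.obj (op W))] G.val.obj (op W) :=
    { Equiv.ofBijective Φ hΦ with
      map_add' := fun x y => by
        show (c.iso W (he (sres P k (x + y)))).down = _
        rw [map_add, map_add, map_add]
        rfl
      map_smul' := hsmul }
  exact ⟨fun _ => Module.Projective.of_equiv L.symm, fun (_ : Module.Projective _ _) => Module.Projective.of_equiv L⟩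

end Groth.Agent.QCart

namespace Groth.Agent.QCart

open Groth.Agent.AlgSpDec

variable {S : Scheme.{u}} {X : Sp S} {F : ModEt X}

/-- Projectivity of sections passes to affine objects over an affine object. -/
theorem ProjAt.of_hom (hF : (etBasis X).IsCart (psh (R := OEt X) F)) {E Z : EtOver X} (hE : IsAff X E)
    (hZ : IsAff X Z) (g : Z ⟶ E) (h : ProjAt F E) : ProjAt F Z := by
  haveI : Module.Projective ((OEt X).obj.obj (op E)) ((psh (R := OEt X) F).obj (op E)) := h
  have : Module.Projective (Rg (OEt X).obj g) (Sec (psh (R := OEt X) F) g) :=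
    Module.Projective.of_equiv' (LinearEquiv.ofBijective (bcMap g (psh (R := OEt X) F)) (hF hE hZ g))
  exact this

/-- Projectivity of sections descends along affine coverings. -/
theorem ProjAt.of_cover (hF : (etBasis X).IsCart (psh (R := OEt X) F)) {E : EtOver X} (hE : IsAff X E)
    (c : Cover (etTop X) (OEt X).obj (etBasis X).aff E) (h : ∀ i, ProjAt F (c.Z i)) : ProjAt F E := by
  haveI : ∀ i, Module.Flat ((OEt X).obj.obj (op E)) (Rg (OEt X).obj (c.m i)) := fun i =>
    (etBasis X).flat hE (c.aff_Z i) (c.m i)
  exact projective_of_family (fun i => Rg (OEt X).obj (c.m i)) c.ff fun i =>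
    haveI : Module.Projective (Rg (OEt X).obj (c.m i)) (Sec (psh (R := OEt X) F) (c.m i)) := h i
    Module.Projective.of_equiv'
      (LinearEquiv.ofBijective (bcMap (c.m i) (psh (R := OEt X) F)) (hF hE (c.aff_Z i) (c.m i))).symm

/-- Projectivity on the affine opens of a surjective chart gives projectivity on every affine object. -/
theorem ProjAt.of_chart (hF : (etBasis X).IsCart (psh (R := OEt X) F)) {U : Over S} (p : (yon S).obj U ⟶ X)
    (hp : RepWith @Etale p) (hs : RepWith @Surjective p)
    (h : ∀ W : U.left.Opens, IsAffineOpen W → ProjAt F (etOpen (EtOver.mk p hp) W)) {E : EtOver X}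
    (hE : IsAff X E) : ProjAt F E := by
  let U₀ := EtOver.mk p hp
  let ι := {W : U.left.Opens // IsAffineOpen W}
  let S₀ : Sieve U₀ := Sieve.ofArrows (fun W : ι => etOpen U₀ W.1) (fun W => etOpenι U₀ W.1)
  have hS₀ : S₀ ∈ etTop X U₀ := AlgSp.ofArrows_mem_etTop _ _ fun x => by
    obtain ⟨W, hW, hx, -⟩ := exists_isAffineOpen_mem_and_subset (U := (⊤ : U.left.Opens)) (x := x) trivial
    exact ⟨⟨W, hW⟩, (⟨x, hx⟩ : W.toScheme), rfl⟩
  have hcov : Sieve.ofObjects (fun W : ι => etOpen U₀ W.1) E ∈ etTop X E := by
    refine (etTop X).transitive (AlgSp.ofArrows_mem_etTop (fun _ : Unit => EtOver.prodObj E U₀)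
      (fun _ => EtOver.prodFst E U₀) fun a => ?_) _ fun V g hg => ?_
    · haveI : Surjective (EtOver.prodFst E U₀).hom.left.left := hs.property_snd E.obj.hom
      exact ⟨(), Surjective.surj (f := (EtOver.prodFst E U₀).hom.left.left) a⟩
    · obtain ⟨_, m, -⟩ := (Sieve.mem_ofArrows_iff _ _ _).1 hg
      refine (etTop X).superset_covering ?_ ((etTop X).pullback_stable (m ≫ EtOver.prodSnd E U₀) hS₀)
      intro V' r hr
      obtain ⟨W, t, -⟩ := (Sieve.mem_ofArrows_iff _ _ _).1 hr
      exact (Sieve.mem_ofObjects_iff ..).2 ⟨W, ⟨t⟩⟩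
  obtain ⟨c, hc⟩ := exists_cover X hE _ hcov
  refine ProjAt.of_cover hF hE c fun i => ?_
  obtain ⟨W, ⟨t⟩⟩ := (Sieve.mem_ofObjects_iff ..).1 (hc i)
  exact ProjAt.of_hom hF (show IsAff X (etOpen U₀ W.1) from W.2) (c.aff_Z i) t (h W.1 W.2)

end Groth.Agent.QCart
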