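import Groth.Agent.QCart.EtBasis
import Groth.Agent.AlgSpDec.EtPullRestrict

/-!
# Restriction of modules along etale morphisms and cartesianness
-/

universe u

set_option autoImplicit false
set_option linter.style.haveILetI false
set_option backward.isDefEq.respectTransparency false
set_option backward.isDefEq.respectTransparency.types false

open CategoryTheory CategoryTheory.Limits AlgebraicGeometry Opposite TensorProduct AlgSp

namespace Groth.Agent.QCart

theorem res_bijective_of_isIso {C : Type*} [Category C] {O : Cᵒᵖ ⥤ CommRingCat.{u}}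
    (M : PresheafOfModules.{u} (RR O)) {E Z : C} (k : Z ⟶ E) [IsIso k] : Cart k M := by
  have hA : ∀ b : Rg O k, ∃ a, algebraMap (O.obj (op E)) (Rg O k) a = b := fun b =>
    ⟨(O.map (inv k).op).hom b, by
      rw [algebraMap_apply', ← CommRingCat.comp_apply, ← O.map_comp, ← op_comp, IsIso.hom_inv_id, op_id, O.map_id]
      rfl⟩
  have hs : Function.Surjective (fun x : M.obj (op E) => (1 : Rg O k) ⊗ₜ[O.obj (op E)] x) := fun z => by
    induction z using TensorProduct.induction_on with
    | zero => exact ⟨0, tmul_zero _ _⟩
    | add a b ha hb =>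
      obtain ⟨x, rfl⟩ := ha
      obtain ⟨y, rfl⟩ := hb
      exact ⟨x + y, tmul_add _ _ _⟩
    | tmul b x =>
      obtain ⟨a, rfl⟩ := hA b
      exact ⟨a • x, by show (1 : Rg O k) ⊗ₜ (a • x) = _; rw [tmul_smul, smul_tmul', Algebra.smul_def, mul_one]⟩
  have hres : Function.Bijective (fun x => bcMap k M ((1 : Rg O k) ⊗ₜ[O.obj (op E)] x)) := by
    simp only [bcMap_tmul, one_smul]
    refine Function.bijective_iff_has_inverse.2
      ⟨fun y => sres M (inv k) (show M.obj (op Z) from y), fun x => ?_, fun y => ?_⟩
    · exact (sres_sres M k (inv k) x).trans (by rw [IsIso.inv_hom_id, sres_id])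
    · exact (sres_sres M (inv k) k (show M.obj (op Z) from y)).trans (by rw [IsIso.hom_inv_id, sres_id])
  refine ⟨fun a b hab => ?_, fun y => ?_⟩
  · obtain ⟨x, rfl⟩ := hs a
    obtain ⟨x', rfl⟩ := hs b
    exact congrArg _ (hres.1 hab)
  · obtain ⟨x, hx⟩ := hres.2 y
    exact ⟨_, hx⟩

variable {S : Scheme.{u}} {X Y : Sp S} {f : X ⟶ Y} (hf : IsEtaleMor f)

open Groth.Agent.AlgSpDec in
/-- Restriction of a module along an etale morphism. -/
noncomputable def restrictMod (M : ModEt Y) : ModEt X :=
  haveI := PostcompSite.isContinuous f hf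
  (SheafOfModules.pushforward.{u + 1} (EtPullRestrict.φ hf)).obj M

theorem restrictMod_smul (M : ModEt Y) (A : EtOver X) (a : (OEt X).obj.obj (op A))
    (x : (psh (R := OEt X) (restrictMod hf M)).obj (op A)) :
    (show (psh (R := OEt Y) M).obj (op ((EtOver.postcomp f hf).obj A)) from a • x) =
      (show (OEt Y).obj.obj (op ((EtOver.postcomp f hf).obj A)) from a) •
        (show (psh (R := OEt Y) M).obj (op ((EtOver.postcomp f hf).obj A)) from x) := by
  show ((BigSite.ORing Scheme.etalePrecoverage S).obj.map (𝟙 A.obj.left).op).hom a •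
      (show M.val.obj (op ((EtOver.postcomp f hf).obj A)) from x) = _
  rw [op_id, CategoryTheory.Functor.map_id]
  rfl

variable (M : ModEt Y)

set_option maxHeartbeats 1000000 in
/-- Cartesianness of a restriction. -/
theorem cart_restrictMod {A A' : EtOver X} (g : A' ⟶ A) :
    Cart g (psh (R := OEt X) (restrictMod hf M)) ↔ Cart ((EtOver.postcomp f hf).map g) (psh (R := OEt Y) M) := by
  let k := (EtOver.postcomp f hf).map g
  let N := psh (R := OEt X) (restrictMod hf M)
  let P := psh (R := OEt Y) M
  let to' : Rg (OEt X).obj g ⊗[(OEt X).obj.obj (op A)] N.obj (op A) →+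
      Rg (OEt Y).obj k ⊗[(OEt Y).obj.obj (op ((EtOver.postcomp f hf).obj A))] P.obj (op ((EtOver.postcomp f hf).obj A)) :=
    TensorProduct.liftAddHom
      (AddMonoidHom.mk' (fun b => AddMonoidHom.mk' (fun x => (show Rg (OEt Y).obj k from b) ⊗ₜ
          (show P.obj (op ((EtOver.postcomp f hf).obj A)) from x)) fun x y => tmul_add _ _ _)
        fun b b' => AddMonoidHom.ext fun x => add_tmul _ _ _)
      fun a b x => by
        exact (TensorProduct.smul_tmul (show (OEt Y).obj.obj (op ((EtOver.postcomp f hf).obj A)) from a)
          (show Rg (OEt Y).obj k from b) (show P.obj (op ((EtOver.postcomp f hf).obj A)) from x)).trans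
          (congrArg (fun z => (show Rg (OEt Y).obj k from b) ⊗ₜ[(OEt Y).obj.obj (op ((EtOver.postcomp f hf).obj A))] z)
            (restrictMod_smul hf M A a x)).symm
  let from' : Rg (OEt Y).obj k ⊗[(OEt Y).obj.obj (op ((EtOver.postcomp f hf).obj A))] P.obj (op ((EtOver.postcomp f hf).obj A)) →+
      Rg (OEt X).obj g ⊗[(OEt X).obj.obj (op A)] N.obj (op A) :=
    TensorProduct.liftAddHom
      (AddMonoidHom.mk' (fun b => AddMonoidHom.mk' (fun x => (show Rg (OEt X).obj g from b) ⊗ₜ
          (show N.obj (op A) from x)) fun x y => tmul_add _ _ _)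
        fun b b' => AddMonoidHom.ext fun x => add_tmul _ _ _)
      fun a b x => by
        exact (TensorProduct.smul_tmul (show (OEt X).obj.obj (op A) from a)
          (show Rg (OEt X).obj g from b) (show N.obj (op A) from x)).trans
          (congrArg (fun z : N.obj (op A) => (show Rg (OEt X).obj g from b) ⊗ₜ[(OEt X).obj.obj (op A)] z)
            (restrictMod_smul hf M A (show (OEt X).obj.obj (op A) from a) (show N.obj (op A) from x)))
  have h₁ : ∀ z, from' (to' z) = z := fun z => by
    induction z using TensorProduct.induction_on with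
    | zero => rw [map_zero, map_zero]
    | add a b ha hb => rw [map_add, map_add, ha, hb]
    | tmul b x => rfl
  have h₂ : ∀ z, to' (from' z) = z := fun z => by
    induction z using TensorProduct.induction_on with
    | zero => rw [map_zero, map_zero]
    | add a b ha hb => rw [map_add, map_add, ha, hb]
    | tmul b x => rfl
  have hcomm : ∀ z, (show P.obj (op ((EtOver.postcomp f hf).obj A')) from bcMap g N z) = bcMap k P (to' z) := fun z => by
    induction z using TensorProduct.induction_on with
    | zero => rw [map_zero, map_zero, map_zero]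
    | add a b ha hb => rw [map_add, map_add, map_add, ← ha, ← hb]
    | tmul b x =>
      rw [bcMap_tmul]
      refine Eq.trans (restrictMod_smul hf M A' b _) ?_
      exact (bcMap_tmul k P _ _).symm
  have hb : Function.Bijective to' := Function.bijective_iff_has_inverse.2 ⟨from', h₁, h₂⟩
  have efun : (fun z => (show Sec P k from bcMap g N z)) = bcMap k P ∘ to' := funext hcomm
  refine Iff.trans (show Cart g N ↔ Function.Bijective (bcMap k P ∘ to') from ?_) (Function.Bijective.of_comp_iff _ hb)
  rw [← efun]
  exact Iff.rfl

end Groth.Agent.QCart
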