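import Groth.Agent.QCart.Colim
import Mathlib.Algebra.Homology.ShortComplex.ModuleCat
import Mathlib.Algebra.Homology.ShortComplex.ShortExact

/-!
# Kernels, cokernels and extensions of cartesian sheaves of modules
-/

universe w v₁ u₁

set_option autoImplicit false
set_option linter.style.haveILetI false
set_option linter.unusedSectionVars false
set_option backward.isDefEq.respectTransparency false
set_option backward.isDefEq.respectTransparency.types false

open CategoryTheory CategoryTheory.Limits Opposite TensorProduct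

namespace Groth.Agent.QCart

variable {C : Type u₁} [Category.{v₁} C] {J : GrothendieckTopology C}
  [J.HasSheafCompose (forget₂ CommRingCat.{w} RingCat.{w})]
  [J.HasSheafCompose (CategoryTheory.forget AddCommGrpCat.{w})]
  [HasSheafify J AddCommGrpCat.{w}] [J.WEqualsLocallyBijective AddCommGrpCat.{w}]
  {R : Sheaf J CommRingCat.{w}} {b : AffBasis J R.obj}

/-- The presheaf morphism underlying a morphism of sheaves of modules. -/
abbrev phom {M N : SheafOfModules.{w} (RS R)} (f : M ⟶ N) : psh M ⟶ psh N := f.val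

theorem injective_app_of_mono {M N : SheafOfModules.{w} (RS R)} (f : M ⟶ N) [Mono f] (E : C) :
    Function.Injective ((phom f).app (op E)) :=
  (ModuleCat.mono_iff_injective _).1
    (inferInstanceAs (Mono ((SheafOfModules.evaluation (RS R) (op E)).map f)))

theorem exists_app_eq_of_exact (S : ShortComplex (SheafOfModules.{w} (RS R))) (hS : S.Exact) [Mono S.f]
    {E : C} (x : (psh S.X₂).obj (op E)) (hx : (phom S.g).app (op E) x = 0) :
    ∃ y : (psh S.X₁).obj (op E), (phom S.f).app (op E) y = x :=
  (ShortComplex.moduleCat_exact_iff _).1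
    (hS.map_of_mono_of_preservesKernel (SheafOfModules.evaluation (RS R) (op E)) inferInstance inferInstance) x hx

theorem app_g_f (S : ShortComplex (SheafOfModules.{w} (RS R))) {E : C} (y : (psh S.X₁).obj (op E)) :
    (phom S.g).app (op E) ((phom S.f).app (op E) y) = 0 :=
  LinearMap.congr_fun (congrArg ModuleCat.Hom.hom
    (((SheafOfModules.evaluation (RS R) (op E)).map_comp S.f S.g).symm.trans
      ((congrArg (SheafOfModules.evaluation (RS R) (op E)).map S.zero).trans (Functor.map_zero _ _ _)))) y

/-- An epimorphism of sheaves of modules is locally surjective. -/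
theorem exists_sieve_preimage_of_epi {M N : SheafOfModules.{w} (RS R)} (f : M ⟶ N) [Epi f] {E : C}
    (t : (psh N).obj (op E)) :
    ∃ S ∈ J E, ∀ ⦃W : C⦄ (h : W ⟶ E), S h → ∃ s : (psh M).obj (op W), (phom f).app (op W) s = sres (psh N) h t := by
  let Q := cokernel f.val
  let π : N.val ⟶ Q := cokernel.π f.val
  let η : Q ⟶ (SheafOfModules.forget (RS R)).obj
      ((PresheafOfModules.sheafification (R := RS R) (𝟙 (RS R).obj)).obj Q) := toShf (R := R) Q
  let g : N ⟶ (PresheafOfModules.sheafification (R := RS R) (𝟙 (RS R).obj)).obj Q :=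
    (SheafOfModules.fullyFaithfulForget (RS R)).preimage (π ≫ η)
  have hg0 : g = 0 := by
    rw [← cancel_epi f, comp_zero]
    refine (SheafOfModules.forget (RS R)).map_injective ?_
    rw [Functor.map_comp, Functor.FullyFaithful.map_preimage, Functor.map_zero]
    exact (Category.assoc _ _ _).symm.trans ((congrArg (· ≫ η) (cokernel.condition f.val)).trans zero_comp)
  let T : psh N ⟶ psh ((PresheafOfModules.sheafification (R := RS R) (𝟙 (RS R).obj)).obj Q) := π ≫ η
  have hT : T = 0 := by
    refine ((SheafOfModules.fullyFaithfulForget (RS R)).map_preimage (π ≫ η)).symm.trans ?_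
    show (SheafOfModules.forget (RS R)).map g = 0
    rw [hg0, Functor.map_zero]
  refine ⟨Presheaf.equalizerSieve (F := Q.presheaf) (X := op E) (π.app (op E) t) 0,
    Presheaf.equalizerSieve_mem J (CategoryTheory.toSheafify J Q.presheaf) (X := op E) _ _ ?_, ?_⟩
  · refine Eq.trans ?_ (map_zero ((CategoryTheory.toSheafify J Q.presheaf).app (op E)).hom).symm
    exact LinearMap.congr_fun (congrArg (fun k => (k.app (op E)).hom) hT) t
  intro W h hh
  have hW : π.app (op W) (sres (psh N) h t) = 0 :=
    (PresheafOfModules.naturality_apply π h.op t).trans (hh.trans (map_zero (Q.presheaf.map h.op).hom))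
  have hex : ((ShortComplex.mk f.val π (cokernel.condition f.val)).map
      (PresheafOfModules.evaluation (RS R).obj (op W))).Exact :=
    (ShortComplex.exact_cokernel f.val).map_of_epi_of_preservesCokernel
      (PresheafOfModules.evaluation (RS R).obj (op W)) inferInstance inferInstance
  exact (ShortComplex.moduleCat_exact_iff _).1 hex (sres (psh N) h t) hW

set_option maxHeartbeats 400000 in
theorem AffBasis.IsCart.kernelFork {S : ShortComplex (SheafOfModules.{w} (RS R))} (hS : S.Exact) [Mono S.f]
    (h₂ : b.IsCart (psh S.X₂)) (h₃ : b.IsCart (psh S.X₃)) : b.IsCart (psh S.X₁) := by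
  intro E Z hE hZ g
  haveI : Module.Flat (R.obj.obj (op E)) (Rg R.obj g) := b.flat hE hZ g
  have hd : Function.Exact (appO (phom S.f) E) (appO (phom S.g) E) := fun x =>
    ⟨fun hx => exists_app_eq_of_exact S hS x hx, by rintro ⟨y, rfl⟩; exact app_g_f S y⟩
  have hBi : Function.Injective ((appO (phom S.f) E).lTensor (Rg R.obj g)) :=
    Module.Flat.lTensor_preserves_injective_linearMap _ (injective_app_of_mono S.f E)
  refine ⟨fun z z' hz => hBi ((h₂ hE hZ g).1 ?_), fun y => ?_⟩
  · rw [← bcMap_natural, ← bcMap_natural, hz]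
  obtain ⟨v, hv⟩ := (h₂ hE hZ g).2 (appSec (phom S.f) g y)
  obtain ⟨u, hu⟩ := (Module.Flat.lTensor_exact (Rg R.obj g) hd v).1 ((h₃ hE hZ g).1 (by
    rw [← bcMap_natural, hv, map_zero]
    exact app_g_f S (show (psh S.X₁).obj (op Z) from y)))
  refine ⟨u, injective_app_of_mono S.f Z ?_⟩
  exact (bcMap_natural (phom S.f) g u).trans ((congrArg _ hu).trans hv)

theorem AffBasis.IsCart.kernel {M N : SheafOfModules.{w} (RS R)} (f : M ⟶ N) (hM : b.IsCart (psh M))
    (hN : b.IsCart (psh N)) : b.IsCart (psh (kernel f)) :=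
  haveI : Mono (ShortComplex.mk (kernel.ι f) f (kernel.condition f)).f := inferInstanceAs (Mono (kernel.ι f))
  AffBasis.IsCart.kernelFork (b := b) (S := ShortComplex.mk (kernel.ι f) f (kernel.condition f))
    (ShortComplex.exact_kernel f) hM hN

theorem AffBasis.IsCart.cokernel {M N : SheafOfModules.{w} (RS R)} (f : M ⟶ N) (hM : b.IsCart (psh M))
    (hN : b.IsCart (psh N)) : b.IsCart (psh (cokernel f)) :=
  b.isCart_colimit_sheaf (parallelPair f 0) _ (colimit.isColimit (parallelPair f 0))
    (fun k => by cases k <;> assumption)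

theorem AffBasis.IsCart.cokernelCofork {S : ShortComplex (SheafOfModules.{w} (RS R))} (hS : S.Exact) [Epi S.g]
    (h₁ : b.IsCart (psh S.X₁)) (h₂ : b.IsCart (psh S.X₂)) : b.IsCart (psh S.X₃) :=
  (h₁.cokernel S.f h₂).of_iso ((cokernelIsCokernel S.f).coconePointUniqueUpToIso hS.gIsCokernel)

/-- Sections over affine objects are exact on short exact sequences with cartesian kernel. -/
theorem AffBasis.IsCart.surjective_app {S : ShortComplex (SheafOfModules.{w} (RS R))} (hS : S.ShortExact)
    (h₁ : b.IsCart (psh S.X₁)) {E : C} (hE : b.aff E) : Function.Surjective ((phom S.g).app (op E)) := by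
  haveI := hS.mono_f
  haveI := hS.epi_g
  intro t
  obtain ⟨T, hT, hpre⟩ := exists_sieve_preimage_of_epi S.g t
  obtain ⟨c, hc⟩ := b.cover hE T hT
  choose s hs using fun i => hpre _ (hc i)
  have hdiff : ∀ ⦃W : C⦄ (i j : Fin c.n) (f : W ⟶ c.Z i) (g : W ⟶ c.Z j), f ≫ c.m i = g ≫ c.m j →
      ∃ y, (phom S.f).app (op W) y = sres (psh S.X₂) g (s j) - sres (psh S.X₂) f (s i) := fun W i j f g e => by
    refine exists_app_eq_of_exact S hS.exact _ ?_
    rw [map_sub, app_sres, app_sres, hs, hs, sres_sres, sres_sres, e, sub_self]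
  choose v hv using hdiff
  let d : Cocycle c (psh S.X₁) :=
    { val := fun W i j f g _ e => v i j f g e
      natural := fun W W' i j f g _ e k hW' => injective_app_of_mono S.f W' (by
        refine (app_sres (phom S.f) k _).trans (Eq.trans ?_ (hv i j _ _ _).symm)
        rw [hv, map_sub, sres_sres, sres_sres])
      cocycle := fun W i j l f g k _ e e' => injective_app_of_mono S.f W (by
        rw [map_add, hv, hv, hv]; abel) }
  obtain ⟨y, hy⟩ := h₁.exists_coboundary c hE d
  obtain ⟨x, hx⟩ := exists_glue_sheaf S.X₂ c.mem (fun i => s i - (phom S.f).app (op (c.Z i)) (y i))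
    fun W i j f g e => by
      let P := b.prod hE (c.aff_Z i) (c.aff_Z j) (c.m i) (c.m j)
      let p : P ⟶ c.Z i := b.fst hE _ _ _ _
      let q : P ⟶ c.Z j := b.snd hE _ _ _ _
      have hpb : IsPullback p q (c.m i) (c.m j) := b.isPullback hE _ _ _ _
      have hP : b.aff P := b.aff_prod hE _ _ _ _
      have h0 : sres (psh S.X₂) p (s i - (phom S.f).app (op (c.Z i)) (y i)) =
          sres (psh S.X₂) q (s j - (phom S.f).app (op (c.Z j)) (y j)) := by
        have h2 := (hv i j p q hpb.w).symm.trans (congrArg ((phom S.f).app (op P)) (hy i j p q hP hpb.w))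
        rw [map_sub, app_sres, app_sres] at h2
        rw [map_sub, map_sub]
        rw [sub_eq_sub_iff_add_eq_add] at h2 ⊢
        rw [add_comm, ← h2, add_comm]
      have h1 := congrArg (sres (psh S.X₂) (hpb.lift f g e)) h0
      rwa [sres_sres, sres_sres, hpb.lift_fst, hpb.lift_snd] at h1
  refine ⟨x, ext_of_ofArrows S.X₃ c.mem _ _ fun i => ?_⟩
  rw [← app_sres, hx, map_sub, app_g_f, sub_zero, hs]

theorem AffBasis.IsCart.extension {S : ShortComplex (SheafOfModules.{w} (RS R))} (hS : S.ShortExact)
    (h₁ : b.IsCart (psh S.X₁)) (h₃ : b.IsCart (psh S.X₃)) : b.IsCart (psh S.X₂) := by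
  haveI := hS.mono_f
  intro E Z hE hZ g
  let B := Rg R.obj g
  haveI : Module.Flat (R.obj.obj (op E)) B := b.flat hE hZ g
  have hd : Function.Exact (appO (phom S.f) E) (appO (phom S.g) E) := fun x =>
    ⟨fun hx => exists_app_eq_of_exact S hS.exact x hx, by rintro ⟨y, rfl⟩; exact app_g_f S y⟩
  refine ⟨(injective_iff_map_eq_zero _).2 fun z hz => ?_, fun y => ?_⟩
  · obtain ⟨u, rfl⟩ := (Module.Flat.lTensor_exact B hd z).1 ((h₃ hE hZ g).1 (by
      rw [← bcMap_natural, hz, map_zero, map_zero]))
    rw [← bcMap_natural] at hz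
    have h0 : bcMap g (psh S.X₁) u = 0 := injective_app_of_mono S.f Z
      (hz.trans (map_zero ((phom S.f).app (op Z)).hom).symm)
    rw [(h₁ hE hZ g).1 (h0.trans (map_zero _).symm), map_zero]
  · obtain ⟨v, hv⟩ := (h₃ hE hZ g).2 (appSec (phom S.g) g y)
    obtain ⟨v', rfl⟩ := LinearMap.lTensor_surjective B (g := appO (phom S.g) E)
      (h₁.surjective_app hS hE) v
    rw [← bcMap_natural] at hv
    obtain ⟨u, hu⟩ := exists_app_eq_of_exact S hS.exact
      (show (psh S.X₂).obj (op Z) from y - bcMap g (psh S.X₂) v') (by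
        show appSec (phom S.g) g (y - bcMap g (psh S.X₂) v') = 0
        rw [map_sub, hv, sub_self])
    obtain ⟨u', hu'⟩ := (h₁ hE hZ g).2 (toSec g _ u)
    refine ⟨v' + (appO (phom S.f) E).lTensor B u', ?_⟩
    rw [map_add, ← bcMap_natural, hu']
    exact (congrArg (fun z : Sec (psh S.X₂) g => bcMap g (psh S.X₂) v' + z) hu).trans (add_sub_cancel _ _)

end Groth.Agent.QCart
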