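import Groth.Agent.QCart.Quasi
import Mathlib.RingTheory.Finiteness.Basic
import Mathlib.Algebra.Module.Projective
import Mathlib.LinearAlgebra.Span.Basic

/-!
# Cartesian sheaves with projective global sections are retracts of free sheaves
-/

universe w v₁ u₁

set_option autoImplicit false
set_option linter.style.haveILetI false
set_option linter.unusedSectionVars false
set_option backward.isDefEq.respectTransparency false
set_option backward.isDefEq.respectTransparency.types false

open CategoryTheory CategoryTheory.Limits Opposite TensorProduct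

namespace Groth.Agent.QCart

variable {C : Type u₁} [Category.{v₁} C] {J : GrothendieckTopology C}
  [J.HasSheafCompose (forget₂ CommRingCat.{w} RingCat.{w})]
  [J.HasSheafCompose (CategoryTheory.forget AddCommGrpCat.{w})]
  [HasSheafify J AddCommGrpCat.{w}] [J.WEqualsLocallyBijective AddCommGrpCat.{w}]
  {R : Sheaf J CommRingCat.{w}} {b : AffBasis J R.obj}

/-- The basis element of a free sheaf over an object. -/
noncomputable def basisAt {I : Type w} (E : C) (i : I) :
    (psh (SheafOfModules.free (R := RS R) I)).obj (op E) :=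
  (phom (SheafOfModules.ιFree (R := RS R) i)).app (op E) (1 : R.obj.obj (op E))

/-- The diagram of units underlying a free sheaf, as presheaves. -/
noncomputable abbrev unitDiag (I : Type w) : Discrete I ⥤ PresheafOfModules.{w} (RS R).obj :=
  (Discrete.functor fun _ : I => SheafOfModules.unit (RS R)) ⋙ SheafOfModules.forget _

/-- The comparison of the free presheaf with the free sheaf. -/
noncomputable def freeComp (I : Type w) :
    colimit (unitDiag (R := R) I) ⟶ (SheafOfModules.forget _).obj (SheafOfModules.free (R := RS R) I) :=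
  colimit.desc (unitDiag I) ((SheafOfModules.forget _).mapCocone (SheafOfModules.freeCofan (R := RS R) I))

theorem freeComp_ι {I : Type w} (E : C) (k : I) :
    (freeComp (R := R) I).app (op E) ((colimit.ι (unitDiag (R := R) I) ⟨k⟩).app (op E) (1 : R.obj.obj (op E))) =
      basisAt E k :=
  congrArg (fun t => t.app (op E) (1 : R.obj.obj (op E)))
    (colimit.ι_desc ((SheafOfModules.forget _).mapCocone (SheafOfModules.freeCofan (R := RS R) I)) ⟨k⟩)

set_option maxHeartbeats 1000000 in
theorem AffBasis.bijective_freeComp {I : Type w} {E : C} (hE : b.aff E) :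
    Function.Bijective ((freeComp (R := R) I).app (op E)) := by
  let adj := PresheafOfModules.sheafificationAdjunction (R := RS R) (𝟙 (RS R).obj)
  let L := PresheafOfModules.sheafification (R := RS R) (𝟙 (RS R).obj)
  let D : Discrete I ⥤ SheafOfModules.{w} (RS R) := Discrete.functor fun _ : I => SheafOfModules.unit (RS R)
  let c := SheafOfModules.freeCofan (R := RS R) I
  let hc := SheafOfModules.isColimitFreeCofan (R := RS R) I
  let hcP := colimit.isColimit (unitDiag (R := R) I)
  haveI := adj.leftAdjoint_preservesColimits.{w, w}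
  let hs := isColimitOfPreserves L hcP
  let e : unitDiag (R := R) I ⋙ L ≅ D := Functor.isoWhiskerLeft D (asIso adj.counit)
  obtain ⟨φ, hφe⟩ : ∃ φ, φ = freeComp (R := R) I := ⟨_, rfl⟩
  have hφ : ∀ k, colimit.ι (unitDiag (R := R) I) k ≫ φ = (SheafOfModules.forget (RS R)).map (c.ι.app k) :=
    fun k => by rw [hφe]; exact colimit.ι_desc ((SheafOfModules.forget (RS R)).mapCocone c) k
  let ψ : L.obj (colimit (unitDiag (R := R) I)) ⟶ c.pt := (adj.homEquiv _ _).symm φ
  have hψ : ψ = (hs.coconePointsIsoOfNatIso hc e).hom := hs.hom_ext fun k => by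
    rw [IsColimit.comp_coconePointsIsoOfNatIso_hom]
    show L.map (colimit.ι (unitDiag I) k) ≫ ψ = adj.counit.app (D.obj k) ≫ c.ι.app k
    rw [← Adjunction.homEquiv_naturality_left_symm, hφ k]
    rw [Adjunction.homEquiv_counit]
    exact adj.counit.naturality (c.ι.app k)
  have hcart : b.IsCart (colimit (unitDiag (R := R) I)) :=
    b.isCart_colimit (unitDiag I) (colimit.cocone _) hcP fun _ => b.isCart_unit
  have h1 : φ = toShf (R := R) (colimit (unitDiag (R := R) I)) ≫ ψ.val := by
    refine Eq.trans ?_ (Adjunction.homEquiv_unit (adj := adj) (f := ψ))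
    exact ((adj.homEquiv _ _).apply_symm_apply φ).symm
  have h2 := hcart.bijective_app (toShf (R := R) (colimit (unitDiag (R := R) I))) hE
  haveI : IsIso ((SheafOfModules.evaluation (RS R) (op E)).map ψ) := by rw [hψ]; infer_instance
  have h3 : Function.Bijective (ψ.val.app (op E)) :=
    ConcreteCategory.bijective_of_isIso ((SheafOfModules.evaluation (RS R) (op E)).map ψ)
  have h4 : Function.Bijective (φ.app (op E)) := by
    rw [h1]
    exact h3.comp h2
  rw [← hφe]
  exact h4

set_option maxHeartbeats 1000000 in
theorem AffBasis.span_basisAt {I : Type w} {E : C} (hE : b.aff E) :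
    Submodule.span (R.obj.obj (op E)) (Set.range (basisAt (R := R) (I := I) E)) = ⊤ := by
  let S := Submodule.span (R.obj.obj (op E)) (Set.range (basisAt (R := R) (I := I) E))
  let q : ModuleCat.of ((RR R.obj).obj (op E)) ((colimit (unitDiag (R := R) I)).obj (op E)) ⟶
      ModuleCat.of ((RR R.obj).obj (op E)) ((psh (SheafOfModules.free (R := RS R) I)).obj (op E) ⧸ S) :=
    ModuleCat.ofHom (X := (colimit (unitDiag (R := R) I)).obj (op E))
      (S.mkQ.comp (appO (Q := psh (SheafOfModules.free (R := RS R) I)) (freeComp I) E))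
  have hq : q = 0 := by
    refine (isColimitOfPreserves (PresheafOfModules.evaluation (RS R).obj (op E))
      (colimit.isColimit (unitDiag (R := R) I))).hom_ext fun k => ?_
    obtain ⟨k⟩ := k
    refine ModuleCat.hom_ext (LinearMap.ext_ring ?_)
    show S.mkQ ((freeComp I).app (op E) ((colimit.ι (unitDiag I) ⟨k⟩).app (op E) (1 : R.obj.obj (op E)))) = 0
    rw [Submodule.mkQ_apply, Submodule.Quotient.mk_eq_zero, freeComp_ι]
    exact Submodule.subset_span ⟨k, rfl⟩
  refine eq_top_iff.2 fun x _ => ?_
  obtain ⟨y, rfl⟩ := (b.bijective_freeComp hE).2 x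
  exact (Submodule.Quotient.mk_eq_zero S).1 (congrArg (fun t => t.hom y) hq :)

set_option maxHeartbeats 1000000 in
theorem AffBasis.projective_free {I : Type w} {E : C} (hE : b.aff E) :
    Module.Projective (R.obj.obj (op E)) ((psh (SheafOfModules.free (R := RS R) I)).obj (op E)) := by
  let hcE := isColimitOfPreserves (PresheafOfModules.evaluation (RS R).obj (op E))
    (colimit.isColimit (unitDiag (R := R) I))
  let P : ModuleCat ((RS R).obj.obj (op E)) := ModuleCat.of _ (I →₀ ((RS R).obj.obj (op E) : Type w))
  let s : Cocone (unitDiag (R := R) I ⋙ PresheafOfModules.evaluation (RS R).obj (op E)) :=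
    { pt := P
      ι := Discrete.natTrans fun k => ModuleCat.ofHom (Y := P)
        (Finsupp.lsingle k.as : ((RS R).obj.obj (op E) : Type w) →ₗ[(RS R).obj.obj (op E)] _) }
  let Ψ : (colimit (unitDiag (R := R) I)).obj (op E) →ₗ[(R.obj.obj (op E))] (I →₀ (R.obj.obj (op E))) := (hcE.desc s).hom
  have hΨ : ∀ k, Ψ ((colimit.ι (unitDiag (R := R) I) ⟨k⟩).app (op E) (1 : (R.obj.obj (op E)))) = Finsupp.single k (1 : (R.obj.obj (op E))) :=
    fun k => congrArg (fun t => t.hom (1 : (R.obj.obj (op E)))) (hcE.fac s ⟨k⟩)
  let φ : (colimit (unitDiag (R := R) I)).obj (op E) ≃ₗ[(R.obj.obj (op E))] (psh (SheafOfModules.free (R := RS R) I)).obj (op E) :=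
    LinearEquiv.ofBijective (appO (Q := psh (SheafOfModules.free (R := RS R) I)) (freeComp I) E)
      (b.bijective_freeComp hE)
  refine Module.Projective.of_split (M := I →₀ (R.obj.obj (op E))) (Ψ.comp φ.symm.toLinearMap)
    (Finsupp.linearCombination (R.obj.obj (op E)) (basisAt (R := R) E)) (LinearMap.ext fun x => ?_)
  have hx : x ∈ Submodule.span (R.obj.obj (op E)) (Set.range (basisAt (R := R) (I := I) E)) :=
    (b.span_basisAt hE).ge Submodule.mem_top
  rw [LinearMap.id_apply]
  induction hx using Submodule.span_induction with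
  | mem y hy =>
    obtain ⟨k, rfl⟩ := hy
    have : φ.symm (basisAt E k) = (colimit.ι (unitDiag (R := R) I) ⟨k⟩).app (op E) (1 : R.obj.obj (op E)) :=
      φ.symm_apply_eq.2 (freeComp_ι E k).symm
    rw [LinearMap.comp_apply, LinearMap.comp_apply, LinearEquiv.coe_coe, this, hΨ, Finsupp.linearCombination_single,
      one_smul]
  | zero => exact map_zero _
  | add y z _ _ hy hz => exact (map_add _ y z).trans (congrArg₂ (· + ·) hy hz)
  | smul a y _ hy => exact (map_smul _ a y).trans (congrArg (a • ·) hy)

variable {T : C} (hT : IsTerminal T) {M : SheafOfModules.{w} (RS R)}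

omit [HasSheafify J AddCommGrpCat.{w}] [J.WEqualsLocallyBijective AddCommGrpCat.{w}] in
theorem globalSec_top (x : (psh M).obj (op T)) : (globalSec hT x).val (op T) = x := by
  show sres (psh M) (hT.from T) x = x
  rw [hT.hom_ext (hT.from T) (𝟙 T)]
  exact sres_id _ _

omit [HasSheafify J AddCommGrpCat.{w}] [J.WEqualsLocallyBijective AddCommGrpCat.{w}] in
include hT in
theorem sections_ext_top {s t : M.sections} (h : s.val (op T) = t.val (op T)) : s = t := by
  refine Subtype.ext (funext fun X => ?_)
  rw [← s.2 (hT.from X.unop).op, ← t.2 (hT.from X.unop).op, h]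

theorem app_basisAt {I : Type w} (f : SheafOfModules.free (R := RS R) I ⟶ M) (i : I) (E : C) :
    (phom f).app (op E) (basisAt E i) = (M.freeHomEquiv f i).val (op E) := rfl

include hT in
set_option maxHeartbeats 1000000 in
/-- A cartesian sheaf with projective sections over an affine terminal object is a retract of a free sheaf. -/
theorem AffBasis.IsCart.exists_retract_free (hTa : b.aff T) (hM : b.IsCart (psh M))
    [Module.Projective (R.obj.obj (op T)) ((psh M).obj (op T))] :
    ∃ (I : Type w) (i : M ⟶ SheafOfModules.free I) (r : SheafOfModules.free I ⟶ M), i ≫ r = 𝟙 M := by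
  let G := hM.generatingSections hT hTa
  let π := G.π
  have hπb : ∀ x : (psh M).obj (op T), (phom π).app (op T) (basisAt (R := R) T x) = x := fun x => by
    refine (app_basisAt π x T).trans ?_
    show ((M.freeHomEquiv ((M.freeHomEquiv).symm G.s)) x).val (op T) = x
    rw [Equiv.apply_symm_apply]
    exact globalSec_top hT x
  obtain ⟨s, hs⟩ := Module.projective_lifting_property (appO (phom π) T) LinearMap.id
    fun x => ⟨basisAt T x, hπb x⟩
  let e : SheafOfModules.free G.I ⟶ SheafOfModules.free G.I :=
    (SheafOfModules.freeHomEquiv _).symm fun x => globalSec hT (s x)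
  have heb : ∀ x : (psh M).obj (op T), (phom e).app (op T) (basisAt T x) = s x := fun x => by
    refine (app_basisAt e x T).trans ?_
    rw [show ((SheafOfModules.free G.I).freeHomEquiv e) = fun x => globalSec hT (s x) from Equiv.apply_symm_apply _ _]
    exact globalSec_top hT _
  have hsπ : ∀ x, (phom π).app (op T) (s x) = x := fun x => LinearMap.congr_fun hs x
  have heT : appO (phom e) T = s.comp (appO (phom π) T) := LinearMap.ext_on (b.span_basisAt hTa) (by
    rintro _ ⟨x, rfl⟩
    exact (heb x).trans (congrArg s (hπb x)).symm)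
  have heπ : e ≫ π = π := by
    refine (SheafOfModules.freeHomEquiv _).injective (funext fun x => sections_ext_top hT ?_)
    rw [← app_basisAt, ← app_basisAt]
    show (phom π).app (op T) ((phom e).app (op T) (basisAt T x)) = (phom π).app (op T) (basisAt T x)
    rw [heb, hsπ, hπb]
  haveI : Epi π := G.epi
  let GK := (AffBasis.IsCart.kernel (b := b) π (b.isCart_free G.I) hM).generatingSections hT hTa
  have hKe : Limits.kernel.ι π ≫ e = 0 := by
    haveI := GK.epi
    refine (cancel_epi GK.π).1 ?_
    rw [comp_zero]
    refine (SheafOfModules.freeHomEquiv _).injective (funext fun k => sections_ext_top hT ?_)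
    rw [← app_basisAt, ← app_basisAt]
    show (phom e).app (op T) ((phom (Limits.kernel.ι π)).app (op T) ((phom GK.π).app (op T) (basisAt T k))) = 0
    refine (LinearMap.congr_fun heT _).trans ?_
    rw [LinearMap.comp_apply]
    have hz : appO (phom π) T ((phom (Limits.kernel.ι π)).app (op T) ((phom GK.π).app (op T) (basisAt T k))) = 0 :=
      app_g_f (ShortComplex.mk (Limits.kernel.ι π) π (Limits.kernel.condition π)) _
    rw [hz, map_zero]
  let hcok : IsColimit (CokernelCofork.ofπ π (Limits.kernel.condition π)) :=
    haveI : Epi (ShortComplex.mk (Limits.kernel.ι π) π (Limits.kernel.condition π)).g := inferInstanceAs (Epi π)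
    (ShortComplex.exact_kernel π).gIsCokernel
  let i : M ⟶ SheafOfModules.free G.I := hcok.desc (CokernelCofork.ofπ e hKe)
  have hi : π ≫ i = e := hcok.fac (CokernelCofork.ofπ e hKe) WalkingParallelPair.one
  refine ⟨G.I, i, π, ?_⟩
  rw [← cancel_epi π, ← Category.assoc, hi, heπ, Category.comp_id]

end Groth.Agent.QCart
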