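import Groth.Agent.QCart.Chart
import Groth.Agent.GrModX.ChartQCoh
import Mathlib.Topology.Sheaves.SheafCondition.UniqueGluing
import Mathlib.RingTheory.Localization.BaseChange
import Mathlib.Algebra.Module.Shrink

/-!
# The Zariski module of sections on an affine object
-/

universe u

set_option autoImplicit false
set_option linter.style.haveILetI false
set_option linter.unusedSectionVars false
set_option backward.isDefEq.respectTransparency false
set_option backward.isDefEq.respectTransparency.types false

open CategoryTheory CategoryTheory.Limits AlgebraicGeometry Opposite TensorProduct AlgSp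

namespace Groth.Agent.QCart.ZarModel

open Groth.Agent.AlgSpDec

variable {S : Scheme.{u}} {X : Sp S} (F : ModEt X) (E : EtOver X)

/-- The inclusion of objects given by an inclusion of opens. -/
noncomputable def le {W W' : E.obj.left.left.Opens} (h : W' ≤ W) : etOpen E W' ⟶ etOpen E W :=
  EtOver.homMk (CategoryTheory.Over.homMk (E.obj.left.left.homOfLE h) (by
    show _ ≫ W.ι ≫ E.obj.left.hom = _
    rw [Scheme.homOfLE_ι_assoc]
    rfl)) (by
    show (yon S).map _ ≫ (yon S).map _ ≫ E.obj.hom = (yon S).map _ ≫ E.obj.hom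
    rw [← Category.assoc, ← Functor.map_comp]
    refine congrArg (fun k => (yon S).map k ≫ E.obj.hom) (CategoryTheory.Over.OverMorphism.ext ?_)
    exact Scheme.homOfLE_ι _ h)

theorem le_ι {W W' : E.obj.left.left.Opens} (h : W' ≤ W) : le E h ≫ etOpenι E W = etOpenι E W' :=
  EtOver.hom_ext _ _ (CategoryTheory.Over.OverMorphism.ext (Scheme.homOfLE_ι _ h))

theorem hom_ext {T : EtOver X} {W : E.obj.left.left.Opens} {a b : T ⟶ etOpen E W}
    (h : a ≫ etOpenι E W = b ≫ etOpenι E W) : a = b := by
  refine EtOver.hom_ext _ _ (CategoryTheory.Over.OverMorphism.ext ?_)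
  rw [← cancel_mono W.ι]
  exact congrArg (fun k : T ⟶ E => k.hom.left.left) h

theorem le_refl' (W : E.obj.left.left.Opens) (h : W ≤ W) : le E h = 𝟙 _ :=
  hom_ext E ((le_ι E h).trans (Category.id_comp _).symm)

theorem le_le {W W' W'' : E.obj.left.left.Opens} (h : W' ≤ W) (h' : W'' ≤ W') :
    le E h' ≫ le E h = le E (h'.trans h) :=
  hom_ext E (by rw [Category.assoc, le_ι, le_ι, le_ι])

/-- The ring of functions on an open, in the ring of the corresponding object. -/
noncomputable def σ (W : E.obj.left.left.Opens) :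
    Γ(E.obj.left.left, W) →+* (OEt X).obj.obj (op (etOpen E W)) :=
  (ULift.ringEquiv (R := Γ(W.toScheme, ⊤))).symm.toRingHom.comp W.topIso.inv.hom

theorem σ_res {W W' : E.obj.left.left.Opens} (h : W' ≤ W) (a : Γ(E.obj.left.left, W)) :
    ((OEt X).obj.map (le E h).op).hom (σ E W a) = σ E W' (E.obj.left.left.presheaf.map (homOfLE h).op a) := by
  show ULift.up ((E.obj.left.left.homOfLE h).appTop (W.topIso.inv a)) = ULift.up (W'.topIso.inv _)
  refine congrArg ULift.up ?_
  rw [← CommRingCat.comp_apply, ← CommRingCat.comp_apply]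
  refine congrArg (fun k : Γ(E.obj.left.left, W) ⟶ Γ(W'.toScheme, ⊤) => k a) ?_
  rw [Scheme.homOfLE_appTop]
  exact (E.obj.left.left.presheaf.map_comp _ _).symm.trans
    ((congrArg _ (Subsingleton.elim _ _)).trans (E.obj.left.left.presheaf.map_comp _ _))

/-- The sections over an open. -/
abbrev Sections (W : E.obj.left.left.Opens) : Type (u + 1) := (psh (R := OEt X) F).obj (op (etOpen E W))

noncomputable instance (W : E.obj.left.left.Opens) : Module Γ(E.obj.left.left, W) (Sections F E W) :=
  Module.compHom _ (σ E W)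

/-- Restriction. -/
noncomputable def res' {W W' : E.obj.left.left.Opens} (h : W' ≤ W) :
    Sections F E W →+ Sections F E W' :=
  sres (psh (R := OEt X) F) (le E h)

theorem res'_smul {W W' : E.obj.left.left.Opens} (h : W' ≤ W) (a : Γ(E.obj.left.left, W)) (x : Sections F E W) :
    res' F E h (a • x) = E.obj.left.left.presheaf.map (homOfLE h).op a • res' F E h x :=
  (sres_smul (psh (R := OEt X) F) (le E h) (σ E W a) x).trans (congrArg (· • res' F E h x) (σ_res E h a))

theorem res'_refl {W : E.obj.left.left.Opens} (h : W ≤ W) (x : Sections F E W) : res' F E h x = x := by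
  unfold res'
  rw [le_refl']
  exact sres_id _ _

theorem res'_res' {W W' W'' : E.obj.left.left.Opens} (h : W' ≤ W) (h' : W'' ≤ W') (x : Sections F E W) :
    res' F E h' (res' F E h x) = res' F E (h'.trans h) x := by
  unfold res'
  rw [sres_sres, le_le]

theorem ofArrows_mem {W : E.obj.left.left.Opens} {ι : Type*} (V : ι → E.obj.left.left.Opens) (h : ∀ i, V i ≤ W)
    (hc : ∀ x ∈ W, ∃ i, x ∈ V i) :
    Sieve.ofArrows (fun i => etOpen E (V i)) (fun i => le E (h i)) ∈ etTop X (etOpen E W) :=
  AlgSp.ofArrows_mem_etTop _ _ fun x => by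
    obtain ⟨i, hi⟩ := hc x.1 x.2
    exact ⟨i, (⟨x.1, hi⟩ : (V i).toScheme), Subtype.ext (Scheme.homOfLE_apply (h i) _)⟩

variable [hs : Fact (∀ W : E.obj.left.left.Opens, IsAffineOpen W → Small.{u} (Sections F E W))]

instance small_sections (W : E.obj.left.left.Opens) : Small.{u} (Sections F E W) := by
  let ι := {V : E.obj.left.left.Opens // IsAffineOpen V ∧ V ≤ W}
  haveI : ∀ V : ι, Small.{u} (Sections F E V.1) := fun V => hs.out V.1 V.2.1
  refine small_of_injective (f := fun x (V : ι) => res' F E V.2.2 x) fun x y hxy => ?_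
  refine ext_of_ofArrows (R := OEt X) F (ofArrows_mem E (fun V : ι => V.1) (fun V => V.2.2) fun z hz => ?_) x y
    (congrFun hxy)
  obtain ⟨V, hV, hzV, hle⟩ := exists_isAffineOpen_mem_and_subset (U := W) (x := z) hz
  exact ⟨⟨V, hV, hle⟩, hzV⟩

/-- The abelian presheaf of small sections. -/
noncomputable def ab : (TopologicalSpace.Opens E.obj.left.left)ᵒᵖ ⥤ AddCommGrpCat.{u} where
  obj W := AddCommGrpCat.of (Shrink.{u} (Sections F E W.unop))
  map {W W'} f := AddCommGrpCat.ofHom ((((equivShrink (Sections F E W'.unop)).symm.addEquiv.symm :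
    Sections F E W'.unop ≃+ _).toAddMonoidHom.comp (res' F E f.unop.le)).comp
      (equivShrink (Sections F E W.unop)).symm.addEquiv.toAddMonoidHom)
  map_id W := by
    refine AddCommGrpCat.hom_ext (AddMonoidHom.ext fun x => ?_)
    show equivShrink _ (res' F E _ ((equivShrink _).symm x)) = x
    rw [res'_refl, Equiv.apply_symm_apply]
  map_comp f g := by
    refine AddCommGrpCat.hom_ext (AddMonoidHom.ext fun x => ?_)
    show equivShrink _ (res' F E _ ((equivShrink _).symm x)) =
      equivShrink _ (res' F E _ ((equivShrink _).symm (equivShrink _ (res' F E _ ((equivShrink _).symm x)))))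
    rw [Equiv.symm_apply_apply, res'_res']

theorem ab_map {W W' : (TopologicalSpace.Opens E.obj.left.left)ᵒᵖ} (f : W ⟶ W') (x : (ab F E).obj W) :
    (ab F E).map f x = equivShrink _ (res' F E f.unop.le ((equivShrink _).symm x)) := rfl

noncomputable instance (W : (TopologicalSpace.Opens E.obj.left.left)ᵒᵖ) :
    Module (E.obj.left.left.ringCatSheaf.obj.obj W) ((ab F E).obj W) :=
  inferInstanceAs (Module Γ(E.obj.left.left, W.unop) (Shrink.{u} (Sections F E W.unop)))

theorem ab_smul {W W' : (TopologicalSpace.Opens E.obj.left.left)ᵒᵖ} (f : W ⟶ W')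
    (r : Γ(E.obj.left.left, W.unop)) (x : Shrink.{u} (Sections F E W.unop)) :
    (equivShrink _ (res' F E f.unop.le ((equivShrink _).symm (r • x))) : Shrink.{u} (Sections F E W'.unop)) =
      (show Γ(E.obj.left.left, W'.unop) from E.obj.left.left.presheaf.map f r) •
        equivShrink _ (res' F E f.unop.le ((equivShrink _).symm x)) := by
  rw [equivShrink_symm_smul, res'_smul, equivShrink_smul]
  rfl

/-- The Zariski module of small sections. -/
noncomputable def model : E.obj.left.left.Modules where
  val := PresheafOfModules.ofPresheaf (R := E.obj.left.left.ringCatSheaf.obj) (ab F E) (fun W W' f r x =>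
    ab_smul F E f r x)
  isSheaf := by
    show Presheaf.IsSheaf _ (ab F E)
    refine (Presheaf.isSheaf_iff_isSheaf_forget _ (ab F E) (CategoryTheory.forget AddCommGrpCat.{u})).2 ?_
    refine (isSheaf_iff_isSheaf_of_type _ _).2 fun W Sv hSv x hx => ?_
    let ι := {V : E.obj.left.left.Opens // ∃ h : V ≤ W, Sv (homOfLE h)}
    have hc := ofArrows_mem E (fun V : ι => V.1) (fun V => V.2.1) fun z hz => by
      obtain ⟨V, f, hf, hzV⟩ := hSv z hz
      exact ⟨⟨V, f.le, hf⟩, hzV⟩
    let y : ∀ V : ι, Sections F E V.1 := fun V => (equivShrink _).symm (x (homOfLE V.2.1) V.2.2)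
    obtain ⟨s, hs⟩ := exists_glue_sheaf (R := OEt X) F hc y fun T V V' a b e => by
      have h1 : a ≫ etOpenι E V.1 = b ≫ etOpenι E V'.1 := by
        rw [← le_ι E V.2.1, ← le_ι E V'.2.1, ← Category.assoc, ← Category.assoc, e]
      have hr : Set.range (a.hom.left.left ≫ V.1.ι) ⊆
          Set.range (V.1 ⊓ V'.1 : E.obj.left.left.Opens).ι := by
        rw [Scheme.Opens.range_ι]
        rintro _ ⟨t, rfl⟩
        refine ⟨(a.hom.left.left t).2, ?_⟩
        have h2 := congrArg (fun k : T ⟶ E => k.hom.left.left t) h1
        exact (show (a.hom.left.left ≫ V.1.ι) t = (b.hom.left.left ≫ V'.1.ι) t from h2) ▸ (b.hom.left.left t).2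
      let l : T ⟶ etOpen E (V.1 ⊓ V'.1) := EtOver.homMk (CategoryTheory.Over.homMk
          (IsOpenImmersion.lift (V.1 ⊓ V'.1 : E.obj.left.left.Opens).ι (a.hom.left.left ≫ V.1.ι) hr) (by
            show _ ≫ _ ≫ E.obj.left.hom = _
            rw [IsOpenImmersion.lift_fac_assoc, Category.assoc]
            exact CategoryTheory.Over.w a.hom.left))
        (by
          rw [← EtOver.w a]
          show (yon S).map _ ≫ (yon S).map _ ≫ E.obj.hom = (yon S).map _ ≫ (yon S).map _ ≫ E.obj.hom
          rw [← Category.assoc, ← Category.assoc ((yon S).map a.hom.left), ← Functor.map_comp, ← Functor.map_comp]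
          refine congrArg (fun k => (yon S).map k ≫ E.obj.hom) (CategoryTheory.Over.OverMorphism.ext ?_)
          exact IsOpenImmersion.lift_fac _ _ hr)
      have hl : l ≫ etOpenι E (V.1 ⊓ V'.1) = a ≫ etOpenι E V.1 :=
        EtOver.hom_ext _ _ (CategoryTheory.Over.OverMorphism.ext (IsOpenImmersion.lift_fac _ _ hr))
      have ha : l ≫ le E inf_le_left = a := hom_ext E (by rw [Category.assoc, le_ι, hl])
      have hb : l ≫ le E inf_le_right = b := hom_ext E (by rw [Category.assoc, le_ι, hl, h1])
      rw [← ha, ← hb, ← sres_sres, ← sres_sres]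
      refine congrArg (sres _ l) ((equivShrink _).injective ?_)
      exact hx (homOfLE (inf_le_left : V.1 ⊓ V'.1 ≤ V.1)) (homOfLE (inf_le_right : V.1 ⊓ V'.1 ≤ V'.1)) V.2.2 V'.2.2
        (Subsingleton.elim _ _)
    refine ⟨equivShrink _ s, fun V f hf => ?_, fun t ht => ?_⟩
    · show equivShrink _ (res' F E _ ((equivShrink _).symm (equivShrink _ s))) = x f hf
      rw [Equiv.symm_apply_apply]
      refine (congrArg (equivShrink _) (hs ⟨V, f.le, hf⟩)).trans ?_
      exact Equiv.apply_symm_apply _ _
    · refine (equivShrink _).symm.injective ?_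
      refine (ext_of_ofArrows (R := OEt X) F hc _ _ fun V => ?_).trans ((equivShrink _).symm_apply_apply s).symm
      rw [hs]
      refine ((equivShrink _).apply_eq_iff_eq_symm_apply.1 ?_)
      exact ht (homOfLE V.2.1) V.2.2

theorem σ_bijective (W : E.obj.left.left.Opens) : Function.Bijective (σ E W) :=
  (ULift.ringEquiv (R := Γ(W.toScheme, ⊤))).symm.bijective.comp W.topIso.symm.commRingCatIsoToRingEquiv.bijective

variable [IsAffine E.obj.left.left]

theorem isLocalization_le (f : Γ(E.obj.left.left, ⊤)) :
    IsLocalization.Away (σ E ⊤ f) (Rg (OEt X).obj (le E (E.obj.left.left.basicOpen_le f))) := by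
  let D := E.obj.left.left.basicOpen f
  let hD := E.obj.left.left.basicOpen_le f
  haveI := (isAffineOpen_top E.obj.left.left).isLocalization_basicOpen f
  have halg : ∀ a : Γ(E.obj.left.left, ⊤), algebraMap _ (Rg (OEt X).obj (le E hD)) (σ E ⊤ a) =
      σ E D (algebraMap Γ(E.obj.left.left, ⊤) Γ(E.obj.left.left, D) a) := fun a => by
    rw [algebraMap_apply', σ_res]
    rfl
  refine IsLocalization.Away.mk _ ?_ (fun z => ?_) (fun a b h => ?_)
  · rw [halg]
    exact (IsLocalization.Away.algebraMap_isUnit f).map (σ E D)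
  · obtain ⟨z, rfl⟩ := (σ_bijective E D).2 z
    obtain ⟨n, a, ha⟩ := IsLocalization.Away.surj f z
    refine ⟨n, σ E ⊤ a, ?_⟩
    have h1 : σ E D z * (σ E D (algebraMap Γ(E.obj.left.left, ⊤) Γ(E.obj.left.left, D) f)) ^ n =
        σ E D (algebraMap Γ(E.obj.left.left, ⊤) Γ(E.obj.left.left, D) a) := by
      rw [← map_pow, ← map_mul, ha]
    rw [← halg, ← halg] at h1
    exact h1
  · obtain ⟨a, rfl⟩ := (σ_bijective E ⊤).2 a
    obtain ⟨b, rfl⟩ := (σ_bijective E ⊤).2 b
    rw [halg, halg] at h
    obtain ⟨n, hn⟩ := IsLocalization.Away.exists_of_eq f ((σ_bijective E D).1 h)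
    refine ⟨n, ?_⟩
    rw [← map_pow, ← map_mul, ← map_mul, hn]

variable (hF : (etBasis X).IsCart (psh (R := OEt X) F))

include hF in
set_option maxHeartbeats 1600000 in
theorem isQCoh_model : Coh.IsQCoh (model F E) := by
  have key : ∀ f : Γ(E.obj.left.left, ⊤),
      IsLocalizedModule (Submonoid.powers (σ E ⊤ f))
        (TensorProduct.mk ((OEt X).obj.obj (op (etOpen E ⊤))) (Rg (OEt X).obj (le E (E.obj.left.left.basicOpen_le f)))
          (Sections F E ⊤) 1) := fun f =>
    haveI := isLocalization_le E f
    (isLocalizedModule_iff_isBaseChange _ (Rg (OEt X).obj (le E (E.obj.left.left.basicOpen_le f))) _).2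
      (TensorProduct.isBaseChange _ _ _)
  have hc : ∀ f : Γ(E.obj.left.left, ⊤), Cart (le E (E.obj.left.left.basicOpen_le f)) (psh (R := OEt X) F) :=
    fun f => hF (show IsAff X (etOpen E ⊤) from (isAffineOpen_top E.obj.left.left :))
      (show IsAff X (etOpen E (E.obj.left.left.basicOpen f)) from (isAffineOpen_top _).basicOpen f) _
  refine Groth.Agent.GrModX.isQCoh_of_affineCover_sections (fun _ : PUnit.{u + 1} => ⊤) ?_
    (fun _ => isAffineOpen_top _) (fun _ f s => ?_) (fun _ f t ht => ?_)
  · exact TopologicalSpace.IsOpenCover.mk (iSup_const (a := (⊤ : E.obj.left.left.Opens)))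
  · haveI := key f
    obtain ⟨z, hz⟩ := (hc f).2 ((equivShrink (Sections F E (E.obj.left.left.basicOpen f))).symm s)
    obtain ⟨⟨m, ⟨_, n, rfl⟩⟩, hm⟩ := IsLocalizedModule.surj (Submonoid.powers (σ E ⊤ f))
      (TensorProduct.mk ((OEt X).obj.obj (op (etOpen E ⊤))) (Rg (OEt X).obj (le E (E.obj.left.left.basicOpen_le f)))
        (Sections F E ⊤) 1) z
    refine ⟨n, equivShrink _ m, ?_⟩
    have h2 := congrArg (bcMap (le E (E.obj.left.left.basicOpen_le f)) (psh (R := OEt X) F)) hm
    rw [TensorProduct.mk_apply, bcMap_tmul, one_smul] at h2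
    show equivShrink _ (res' F E _ ((equivShrink _).symm (equivShrink _ m))) =
      (show Γ(E.obj.left.left, E.obj.left.left.basicOpen f) from _) • (show Shrink.{u} (Sections F E _) from s)
    rw [Equiv.symm_apply_apply]
    refine (equivShrink _).symm.injective ?_
    rw [Equiv.symm_apply_apply, equivShrink_symm_smul]
    refine (h2.symm :).trans ?_
    rw [Submonoid.smul_def, ← algebraMap_smul (Rg (OEt X).obj (le E (E.obj.left.left.basicOpen_le f))), map_smul, hz]
    show ((OEt X).obj.map (le E (E.obj.left.left.basicOpen_le f)).op).hom (σ E ⊤ f ^ n) •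
        ((equivShrink (Sections F E (E.obj.left.left.basicOpen f))).symm s : Sections F E (E.obj.left.left.basicOpen f)) =
      σ E (E.obj.left.left.basicOpen f) (E.obj.left.left.presheaf.map (homOfLE (E.obj.left.left.basicOpen_le f)).op f ^ n) •
        (equivShrink (Sections F E (E.obj.left.left.basicOpen f))).symm s
    rw [map_pow, σ_res, ← map_pow]
  · haveI := key f
    have h0 : res' F E (E.obj.left.left.basicOpen_le f) ((equivShrink _).symm t) = 0 := by
      refine ((equivShrink _).injective ?_)
      exact (ht : _).trans ((equivShrink _).symm.injective ((Equiv.symm_apply_apply _ _).trans (equivShrink_symm_zero (α := Sections F E _)).symm)).symm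
    have h1 : TensorProduct.mk ((OEt X).obj.obj (op (etOpen E ⊤))) (Rg (OEt X).obj (le E (E.obj.left.left.basicOpen_le f)))
        (Sections F E ⊤) 1 ((equivShrink _).symm t) = 0 := by
      refine (hc f).1 ?_
      rw [TensorProduct.mk_apply, bcMap_tmul, one_smul, map_zero]
      exact h0
    obtain ⟨⟨_, n, rfl⟩, hn⟩ := (IsLocalizedModule.eq_zero_iff (Submonoid.powers (σ E ⊤ f)) _).1 h1
    refine ⟨n, (equivShrink _).symm.injective ?_⟩
    refine ((equivShrink_symm_smul (f ^ n) (show Shrink.{u} (Sections F E ⊤) from t)).trans ?_).trans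
      (equivShrink_symm_zero (α := Sections F E ⊤)).symm
    show σ E ⊤ (f ^ n) • ((equivShrink (Sections F E ⊤)).symm t : Sections F E ⊤) = 0
    rw [map_pow]
    exact hn

/-! ### The companion -/

omit hs [IsAffine E.obj.left.left] in
theorem ofBij_symm {M N : Type*} [AddCommGroup M] [AddCommGroup N] (f : M →+ N) (h : Function.Bijective f) (x : M) :
    (AddEquiv.ofBijective f h).symm (f x) = x :=
  (AddEquiv.ofBijective f h).symm_apply_apply x


variable (hrep : Representable E.obj.hom) [(SheafOfModules.pushforward.{u + 1} (bcRingHom hrep)).IsRightAdjoint]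

/-- The composite of an open with the structure map, as an open of the object. -/
noncomputable def toOpen (W : E.obj.left.left.Opens) :
    (EtOver.postcomp E.obj.hom (isEtaleMor_of_repWith _ E.property)).obj
      ((EtOver.ofScheme E.obj.left).obj (etaleOfOpen E.obj.left.left W)) ⟶ etOpen E W :=
  EtOver.homMk (𝟙 _) (by
    rw [CategoryTheory.Functor.map_id, Category.id_comp]
    show _ ≫ E.obj.hom = ((yon S).map _ ≫ 𝟙 _) ≫ E.obj.hom
    rw [Category.comp_id]
    rfl)

instance isIso_toOpen (W : E.obj.left.left.Opens) : IsIso (toOpen E W) :=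
  ⟨EtOver.homMk (𝟙 _) (by
    rw [CategoryTheory.Functor.map_id, Category.id_comp]
    show ((yon S).map _ ≫ 𝟙 _) ≫ E.obj.hom = _ ≫ E.obj.hom
    rw [Category.comp_id]
    rfl), EtOver.hom_ext _ _ (Category.id_comp _), EtOver.hom_ext _ _ (Category.id_comp _)⟩

theorem toOpen_le {W W' : E.obj.left.left.Opens} (h : W' ≤ W) :
    (EtOver.postcomp E.obj.hom (isEtaleMor_of_repWith _ E.property)).map
        ((EtOver.ofScheme E.obj.left).map (etaleOfLE h)) ≫ toOpen E W = toOpen E W' ≫ le E h :=
  EtOver.hom_ext _ _ ((Category.comp_id _).trans (Category.id_comp _).symm)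

/-- The comparison of restriction and pullback along the chart. -/
noncomputable def pullIso :
    haveI := PostcompSite.isContinuous E.obj.hom (isEtaleMor_of_repWith _ E.property)
    restrictMod (isEtaleMor_of_repWith _ E.property) F ≅ (pullModEt hrep).obj F :=
  haveI := PostcompSite.isContinuous E.obj.hom (isEtaleMor_of_repWith _ E.property)
  ((EtPullRestrict.modAdj hrep (isEtaleMor_of_repWith _ E.property)).leftAdjointUniq (pullPushAdjModEt hrep)).app F

/-- The sections over the objects of the chart. -/
abbrev RSec (W : E.obj.left.left.Opens) : Type (u + 1) :=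
  (psh (R := OEt ((yon S).obj E.obj.left)) (restrictMod (isEtaleMor_of_repWith _ E.property) F)).obj
    (op ((EtOver.ofScheme E.obj.left).obj (etaleOfOpen E.obj.left.left W)))

/-- Sections over an open as sections of the restriction. -/
noncomputable def preSec (W : E.obj.left.left.Opens) : Sections F E W →+ RSec F E W :=
  AddMonoidHom.mk' (fun x => sres (psh (R := OEt X) F) (toOpen E W) x) fun x y =>
    map_add (sres (psh (R := OEt X) F) (toOpen E W)) x y

theorem preSec_bijective (W : E.obj.left.left.Opens) : Function.Bijective (preSec F E W) := by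
  refine Function.bijective_iff_has_inverse.2 ⟨fun y => sres (psh (R := OEt X) F) (inv (toOpen E W)) y,
    fun x => ?_, fun y => ?_⟩
  · exact (sres_sres _ (toOpen E W) (inv (toOpen E W)) x).trans (by rw [IsIso.inv_hom_id, sres_id])
  · exact (sres_sres _ (inv (toOpen E W)) (toOpen E W) y).trans (by rw [IsIso.hom_inv_id, sres_id])

set_option maxHeartbeats 1600000 in
theorem preSec_smul (W : E.obj.left.left.Opens) (a : Γ(E.obj.left.left, W)) (x : Sections F E W) :
    preSec F E W (a • x) =
      (show (OEt ((yon S).obj E.obj.left)).obj.obj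
        (op ((EtOver.ofScheme E.obj.left).obj (etaleOfOpen E.obj.left.left W))) from
        ULift.up (W.topIso.inv a)) • preSec F E W x := by
  have h1 := restrictMod_smul (isEtaleMor_of_repWith _ E.property) F
    ((EtOver.ofScheme E.obj.left).obj (etaleOfOpen E.obj.left.left W))
    (show (OEt ((yon S).obj E.obj.left)).obj.obj
        (op ((EtOver.ofScheme E.obj.left).obj (etaleOfOpen E.obj.left.left W))) from
        ULift.up (W.topIso.inv a)) (preSec F E W x)
  have h2 : sres (psh (R := OEt X) F) (toOpen E W) ((σ E W a) • x : Sections F E W) =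
      ((OEt X).obj.map (toOpen E W).op).hom (σ E W a) • sres (psh (R := OEt X) F) (toOpen E W) x :=
    sres_smul (psh (R := OEt X) F) (toOpen E W) (σ E W a) x
  have h3 : ((OEt X).obj.map (toOpen E W).op).hom (σ E W a) =
      (show (OEt X).obj.obj (op ((EtOver.postcomp E.obj.hom (isEtaleMor_of_repWith _ E.property)).obj
        ((EtOver.ofScheme E.obj.left).obj (etaleOfOpen E.obj.left.left W)))) from ULift.up (W.topIso.inv a)) := rfl
  rw [h3] at h2
  exact h2.trans h1.symm

theorem preSec_res {W W' : E.obj.left.left.Opens} (h : W' ≤ W) (x : Sections F E W) :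
    sres (psh (R := OEt ((yon S).obj E.obj.left)) (restrictMod (isEtaleMor_of_repWith _ E.property) F))
        ((EtOver.ofScheme E.obj.left).map (etaleOfLE h)) (preSec F E W x) =
      preSec F E W' (res' F E h x) := by
  show sres (psh (R := OEt X) F)
      ((EtOver.postcomp E.obj.hom (isEtaleMor_of_repWith _ E.property)).map
        ((EtOver.ofScheme E.obj.left).map (etaleOfLE h))) (sres (psh (R := OEt X) F) (toOpen E W) x) =
    sres (psh (R := OEt X) F) (toOpen E W') (sres (psh (R := OEt X) F) (le E h) x)
  rw [sres_sres, sres_sres, toOpen_le]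

set_option maxHeartbeats 1600000 in
/-- The sections of the pullback over an open. -/
noncomputable def toPull (W : E.obj.left.left.Opens) :
    Sections F E W →+ (psh (R := OEt ((yon S).obj E.obj.left)) ((pullModEt hrep).obj F)).obj
      (op ((EtOver.ofScheme E.obj.left).obj (etaleOfOpen E.obj.left.left W))) :=
  ((phom (R := OEt ((yon S).obj E.obj.left)) (pullIso F E hrep).hom).app _).hom.toAddMonoidHom.comp (preSec F E W)

theorem toPull_bijective (W : E.obj.left.left.Opens) : Function.Bijective (toPull F E hrep W) := by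
  let A := (EtOver.ofScheme E.obj.left).obj (etaleOfOpen E.obj.left.left W)
  have : IsIso ((phom (R := OEt ((yon S).obj E.obj.left)) (pullIso F E hrep).hom).app (op A)) :=
    inferInstanceAs (IsIso ((SheafOfModules.evaluation _ (op A)).map (pullIso F E hrep).hom))
  exact (ConcreteCategory.bijective_of_isIso
    ((phom (R := OEt ((yon S).obj E.obj.left)) (pullIso F E hrep).hom).app (op A))).comp (preSec_bijective F E W)

theorem toPull_smul (W : E.obj.left.left.Opens) (a : Γ(E.obj.left.left, W)) (x : Sections F E W) :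
    toPull F E hrep W (a • x) =
      (show (OEt ((yon S).obj E.obj.left)).obj.obj
        (op ((EtOver.ofScheme E.obj.left).obj (etaleOfOpen E.obj.left.left W))) from
        ULift.up (W.topIso.inv a)) • toPull F E hrep W x :=
  (congrArg (fun z => (phom (R := OEt ((yon S).obj E.obj.left)) (pullIso F E hrep).hom).app _ z)
    (preSec_smul F E W a x)).trans (app_smul' (phom (R := OEt ((yon S).obj E.obj.left)) (pullIso F E hrep).hom) _ _)

theorem toPull_res {W W' : E.obj.left.left.Opens} (h : W' ≤ W) (x : Sections F E W) :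
    sres (psh (R := OEt ((yon S).obj E.obj.left)) ((pullModEt hrep).obj F))
        ((EtOver.ofScheme E.obj.left).map (etaleOfLE h)) (toPull F E hrep W x) =
      toPull F E hrep W' (res' F E h x) :=
  (app_sres (phom (R := OEt ((yon S).obj E.obj.left)) (pullIso F E hrep).hom)
      ((EtOver.ofScheme E.obj.left).map (etaleOfLE h)) (preSec F E W x)).symm.trans
    (congrArg (fun z => (phom (R := OEt ((yon S).obj E.obj.left)) (pullIso F E hrep).hom).app _ z) (preSec_res F E h x))

set_option maxHeartbeats 1600000 in
/-- The model is a companion of the pullback along the chart. -/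
noncomputable def companion :
    ZarCompanion E.obj.left.left (model F E) ((resSchModEt E.obj.left).obj ((pullModEt hrep).obj F)) where
  iso W := ((AddEquiv.ofBijective _ (toPull_bijective F E hrep W)).symm.trans
    (equivShrink (Sections F E W)).symm.addEquiv.symm).trans (AddEquiv.ulift.symm)
  map_smul W a m := by
    obtain ⟨x, rfl⟩ := (toPull_bijective F E hrep W).2 m
    refine congrArg ULift.up ?_
    show equivShrink _ ((AddEquiv.ofBijective _ (toPull_bijective F E hrep W)).symm _) =
      a • equivShrink _ ((AddEquiv.ofBijective _ (toPull_bijective F E hrep W)).symm _)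
    rw [ofBij_symm, ← equivShrink_smul]
    refine congrArg (equivShrink _) ((AddEquiv.symm_apply_eq _).2 ?_)
    exact (toPull_smul F E hrep W a x).symm
  map_res {W W'} h m := by
    obtain ⟨x, rfl⟩ := (toPull_bijective F E hrep W).2 m
    refine congrArg ULift.up ?_
    show equivShrink _ ((AddEquiv.ofBijective _ (toPull_bijective F E hrep W')).symm _) =
      equivShrink _ (res' F E _ ((equivShrink _).symm (equivShrink _
        ((AddEquiv.ofBijective _ (toPull_bijective F E hrep W)).symm _))))
    rw [ofBij_symm, Equiv.symm_apply_apply]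
    refine congrArg (equivShrink _) ((AddEquiv.symm_apply_eq _).2 ?_)
    exact toPull_res F E hrep h x

end Groth.Agent.QCart.ZarModel
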