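import Groth.Agent.QCart.ProjFree
import Groth.Agent.QCart.ZarModel
import Groth.Agent.QCart.EtPull

/-!
# Pullback preserves local projectivity
-/

universe u

set_option autoImplicit false
set_option linter.style.haveILetI false
set_option backward.isDefEq.respectTransparency false
set_option backward.isDefEq.respectTransparency.types false

open CategoryTheory CategoryTheory.Limits AlgebraicGeometry Opposite TensorProduct AlgSp

namespace Groth.Agent.QCart

open Groth.Agent.AlgSpDec

variable {S : Scheme.{u}} {X Y : Sp S} {f : X ⟶ Y}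

section
variable {C : Type (u + 1)} [Category.{u} C] {J : GrothendieckTopology C}
  [J.HasSheafCompose (forget₂ CommRingCat.{u + 1} RingCat.{u + 1})]
  [J.HasSheafCompose (CategoryTheory.forget AddCommGrpCat.{u + 1})]
  {R : Sheaf J CommRingCat.{u + 1}}

theorem retract_app {M N : SheafOfModules.{u + 1} (RS R)} (i : M ⟶ N) (r : N ⟶ M) (h : i ≫ r = 𝟙 M) (E : C) :
    (appO (phom r) E).comp (appO (phom i) E) = LinearMap.id :=
  LinearMap.ext fun x => LinearMap.congr_fun (congrArg ModuleCat.Hom.hom
    (((SheafOfModules.evaluation (RS R) (op E)).map_comp i r).symm.trans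
      ((congrArg (SheafOfModules.evaluation (RS R) (op E)).map h).trans
        ((SheafOfModules.evaluation (RS R) (op E)).map_id M)))) x

end

set_option maxHeartbeats 1600000 in
/-- Sections of a pullback are projective over affine objects above an affine object. -/
theorem projAt_pull_of_hom (hf : Representable f) [(SheafOfModules.pushforward.{u + 1} (bcRingHom hf)).IsRightAdjoint]
    {G : ModEt Y} (hG : (etBasis Y).IsCart (psh (R := OEt Y) G)) {E : EtOver Y} (hE : IsAff Y E) (hP : ProjAt G E)
    {Z : EtOver X} (hZ : IsAff X Z) (t : Z ⟶ (EtOver.bc hf).obj E) : ProjAt ((pullModEt hf).obj G) Z := by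
  let F := EtOver.bc hf
  haveI : Module.Projective (((OEt Y).over E).obj.obj (op (CategoryTheory.Over.mk (𝟙 E))))
      ((psh (R := (OEt Y).over E) (G.over E)).obj (op (CategoryTheory.Over.mk (𝟙 E)))) := hP
  obtain ⟨I, i, r, hir⟩ := (hG.over E).exists_retract_free (R := (OEt Y).over E) (b := (etBasis Y).over E)
    CategoryTheory.Over.mkIdTerminal hE
  let L := ((pullModEt hf).obj G).over (F.obj E)
  let i' : L ⟶ SheafOfModules.free I :=
    (PullQC.homEquiv E F (bcRingHom hf) G _).symm (i ≫ PullQC.theta E F (bcRingHom hf) I)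
  let r' : SheafOfModules.free I ⟶ L :=
    (Equiv.ofBijective _ (PullQC.theta_bijective E F (bcRingHom hf) I L)).symm
      (r ≫ PullQC.homEquiv E F (bcRingHom hf) G L (𝟙 L))
  have hr' : PullQC.theta E F (bcRingHom hf) I ≫
      (SheafOfModules.pushforward.{u + 1} (PullQC.postRing E F (bcRingHom hf))).map r' =
        r ≫ PullQC.homEquiv E F (bcRingHom hf) G L (𝟙 L) :=
    (Equiv.ofBijective _ (PullQC.theta_bijective E F (bcRingHom hf) I L)).apply_symm_apply _
  have h : i' ≫ r' = 𝟙 L := by
    refine (PullQC.homEquiv E F (bcRingHom hf) G L).injective ?_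
    rw [PullQC.homEquiv_comp, Equiv.apply_symm_apply, Category.assoc, hr', ← Category.assoc, hir, Category.id_comp]
  let W := CategoryTheory.Over.mk t
  haveI := ((etBasis X).over (F.obj E)).projective_free (R := (OEt X).over (F.obj E)) (I := I) (E := W) hZ
  have : Module.Projective (((OEt X).over (F.obj E)).obj.obj (op W))
      ((psh (R := (OEt X).over (F.obj E)) L).obj (op W)) :=
    Module.Projective.of_split (appO (phom (R := (OEt X).over (F.obj E)) i') W)
      (appO (phom (R := (OEt X).over (F.obj E)) r') W) (retract_app (R := (OEt X).over (F.obj E)) i' r' h W)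
  exact this

set_option maxHeartbeats 1600000 in
/-- Pullback along a representable morphism preserves local projectivity. -/
theorem projAt_pull (hY : IsAlgSpace Y) (hf : Representable f)
    [(SheafOfModules.pushforward.{u + 1} (bcRingHom hf)).IsRightAdjoint]
    {G : ModEt Y} [G.IsQuasicoherent] (h : ∀ E : EtOver Y, IsAff Y E → ProjAt G E)
    {Z : EtOver X} (hZ : IsAff X Z) : ProjAt ((pullModEt hf).obj G) Z := by
  have hG := (isQuasicoherent_iff Y G).1 inferInstance
  have hfG := (isQuasicoherent_iff X _).1 (isQuasicoherent_pullModEt hf hY G)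
  have hcT : (etTop X).CoversTop (fun E : {E : EtOver Y // IsAff Y E} => (EtOver.bc hf).obj E.1) :=
    coversTop_bc hf hY (fun E : {E : EtOver Y // IsAff Y E} => E.1) fun W => by
      refine (etTop Y).superset_covering ?_ ((etBasis Y).dense W)
      rintro V g ⟨A, p, q, hA, rfl⟩
      exact (Sieve.mem_ofObjects_iff ..).2 ⟨⟨A, hA⟩, ⟨p⟩⟩
  obtain ⟨c, hc⟩ := exists_cover X hZ _ (hcT Z)
  refine ProjAt.of_cover hfG hZ c fun i => ?_
  obtain ⟨E, ⟨t⟩⟩ := (Sieve.mem_ofObjects_iff ..).1 (hc i)
  exact projAt_pull_of_hom hf hG E.2 (h E.1 E.2) (c.aff_Z i) t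

set_option maxHeartbeats 1600000 in
/-- Projectivity on the Zariski models of the charts gives projectivity of the sections. -/
theorem projAt_of_zariski (hY : IsAlgSpace Y) (G : ModEt Y) [G.IsQuasicoherent]
    (hsmall : ∀ E : EtOver Y, IsAffine E.obj.left.left → Small.{u} (sectModEt G E))
    (hproj : ∀ {V : Over S} (q : (yon S).obj V ⟶ Y) (hrepq : Representable q)
      [(SheafOfModules.pushforward.{u + 1} (bcRingHom hrepq)).IsRightAdjoint]
      (H : V.left.Modules) [Coh.IsQCoh H] (_ : ZarCompanion V.left H ((resSchModEt V).obj ((pullModEt hrepq).obj G)))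
      (W : V.left.Opens), RepWith @Etale q → IsAffineOpen W →
        Module.Projective (V.left.ringCatSheaf.obj.obj (op W)) (H.val.obj (op W)))
    (E : EtOver Y) (hE : IsAff Y E) : ProjAt G E := by
  have hG := (isQuasicoherent_iff Y G).1 inferInstance
  haveI : IsAffine E.obj.left.left := hE
  haveI : Fact (∀ W : E.obj.left.left.Opens, IsAffineOpen W → Small.{u} (ZarModel.Sections G E W)) :=
    ⟨fun W hW => hsmall (etOpen E W) hW⟩
  have hrep : Representable E.obj.hom := hY.representable_from_yon E.obj.hom
  haveI := PostcompSite.isContinuous E.obj.hom (isEtaleMor_of_repWith _ E.property)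
  haveI : (SheafOfModules.pushforward.{u + 1} (bcRingHom hrep)).IsRightAdjoint :=
    (EtPullRestrict.modAdj hrep (isEtaleMor_of_repWith _ E.property)).isRightAdjoint
  haveI := ZarModel.isQCoh_model G E hG
  have h1 := (projAt_iff_companion G E.obj.hom hrep E.property (ZarModel.model G E)
    (ZarModel.companion G E hrep) ⊤).1
    (hproj E.obj.hom hrep _ (ZarModel.companion G E hrep) ⊤ E.property (isAffineOpen_top _))
  exact ProjAt.of_hom hG (show IsAff Y (etOpen E ⊤) from (isAffineOpen_top E.obj.left.left :)) hE
    (EtOver.homMk (CategoryTheory.Over.homMk E.obj.left.left.topIso.inv (by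
      show _ ≫ (⊤ : E.obj.left.left.Opens).ι ≫ E.obj.left.hom = _
      rw [← Scheme.topIso_hom, Iso.inv_hom_id_assoc])) (by
      show (yon S).map _ ≫ (yon S).map _ ≫ E.obj.hom = E.obj.hom
      rw [← Category.assoc, ← Functor.map_comp]
      refine Eq.trans (congrArg (fun k => (yon S).map k ≫ E.obj.hom) (show _ = 𝟙 E.obj.left from
        CategoryTheory.Over.OverMorphism.ext E.obj.left.left.topIso.inv_hom_id)) ?_
      rw [CategoryTheory.Functor.map_id, Category.id_comp])) h1

end Groth.Agent.QCart
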