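import Mathlib.Algebra.Category.ModuleCat.Sheaf.Quasicoherent
import Mathlib.Algebra.Category.ModuleCat.Sheaf.PullbackFree
import Mathlib.CategoryTheory.Limits.Preserves.Shapes.BinaryProducts
import Mathlib.CategoryTheory.Limits.Shapes.Terminal

/-!
# Pullback of quasi-coherent modules

If a continuous functor preserves binary products, pullback of sheaves of modules along it commutes with
restriction to slices, hence carries presentations on a slice to presentations on the image slice.
-/

universe w

set_option autoImplicit false
set_option linter.style.haveILetI false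
set_option linter.unusedSectionVars false
set_option backward.isDefEq.respectTransparency false
set_option backward.isDefEq.respectTransparency.types false
set_option backward.defeqAttrib.useBackward true

open CategoryTheory CategoryTheory.Limits Opposite

namespace Groth.Agent.QCart.PullQC

variable {C : Type (w + 1)} [Category.{w} C] [HasBinaryProducts C] {J : GrothendieckTopology C}
  (S : Sheaf J RingCat.{w + 1}) (E : C)

/-- The comparison of a sheaf of rings with the direct image of its restriction to a slice. -/
noncomputable def starRing :
    S ⟶ ((Over.star E).sheafPushforwardContinuous RingCat.{w + 1} J (J.over E)).obj (S.over E) :=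
  ObjectProperty.homMk
    { app := fun V => S.obj.map ((Over.forgetAdjStar E).counit.app V.unop).op
      naturality := fun V V' f => by
        show S.obj.map f ≫ S.obj.map _ = S.obj.map _ ≫ S.obj.map ((Over.star E).map f.unop).left.op
        rw [← Functor.map_comp, ← Functor.map_comp]
        exact congrArg S.obj.map (Quiver.Hom.unop_inj
          (((Over.forgetAdjStar E).counit.naturality f.unop).symm :)) }

/-- Restriction to a slice is left adjoint to the direct image along the product functor. -/
noncomputable def overAdj : SheafOfModules.overFunctor.{w + 1} S E ⊣ SheafOfModules.pushforward.{w + 1} (starRing S E) :=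
  SheafOfModules.pushforwardPushforwardAdj (Over.forgetAdjStar E) (𝟙 _) (starRing S E)
    (by
      ext V : 2
      exact (Category.comp_id _).symm)
    (by
      ext W : 2
      show 𝟙 _ ≫ S.obj.map ((Over.forgetAdjStar E).counit.app W.unop.left).op ≫
        S.obj.map ((Over.forgetAdjStar E).unit.app W.unop).left.op = 𝟙 _
      rw [Category.id_comp, ← Functor.map_comp, ← op_comp,
        show ((Over.forgetAdjStar E).unit.app W.unop).left ≫ (Over.forgetAdjStar E).counit.app W.unop.left = 𝟙 _
          from (Over.forgetAdjStar E).left_triangle_components W.unop]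
      exact S.obj.map_id _)

variable {D : Type (w + 1)} [Category.{w} D] [HasBinaryProducts D] {K : GrothendieckTopology D}
  {R : Sheaf K RingCat.{w + 1}} (F : C ⥤ D) [F.IsContinuous J K]
  [(Over.post (X := E) F).IsContinuous (J.over E) (K.over (F.obj E))]
  [PreservesLimitsOfShape (Discrete WalkingPair) F]
  {S} (φ : S ⟶ (F.sheafPushforwardContinuous RingCat.{w + 1} J K).obj R)

/-- The map of sheaves of rings on slices. -/
noncomputable def postRing :
    S.over E ⟶ ((Over.post (X := E) F).sheafPushforwardContinuous RingCat.{w + 1} (J.over E) (K.over (F.obj E))).obj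
      (R.over (F.obj E)) :=
  ObjectProperty.homMk
    { app := fun W => φ.hom.app (op W.unop.left)
      naturality := fun _ _ f => φ.hom.naturality f.unop.left.op }

/-- A functor preserving binary products commutes with the product functors to slices. -/
noncomputable def starPostIso : Over.star E ⋙ Over.post (X := E) F ≅ F ⋙ Over.star (F.obj E) :=
  NatIso.ofComponents (fun V => Over.isoMk (PreservesLimitPair.iso F E V) (by simp))
    (fun {V V'} f => by
      ext1
      apply prod.hom_ext <;> simp [← Functor.map_comp])

/-- Direct images commute with the direct images from slices. -/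
noncomputable def pushIso :
    SheafOfModules.pushforward.{w + 1} (postRing E F φ) ⋙ SheafOfModules.pushforward.{w + 1} (starRing S E) ≅
      SheafOfModules.pushforward.{w + 1} (starRing R (F.obj E)) ⋙ SheafOfModules.pushforward.{w + 1} φ :=
  letI := Functor.isContinuous_comp (Over.star E) (Over.post (X := E) F) J (J.over E) (K.over (F.obj E))
  letI := Functor.isContinuous_comp F (Over.star (F.obj E)) J K (K.over (F.obj E))
  SheafOfModules.pushforwardComp _ _ ≪≫
    (SheafOfModules.pushforwardCongr₂ _ (starPostIso E F) (by
      ext V : 3
      show (φ.hom.app V ≫ R.obj.map ((Over.forgetAdjStar (F.obj E)).counit.app (F.obj V.unop)).op) ≫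
          R.obj.map ((starPostIso E F).hom.app V.unop).left.op =
        S.obj.map ((Over.forgetAdjStar E).counit.app V.unop).op ≫ φ.hom.app (op ((Over.star E).obj V.unop).left)
      refine Eq.trans ?_ (φ.hom.naturality ((Over.forgetAdjStar E).counit.app V.unop).op).symm
      rw [Category.assoc, ← Functor.map_comp, ← op_comp]
      refine congrArg (fun k => φ.hom.app V ≫ R.obj.map k) (congrArg Quiver.Hom.op ?_)
      simp [starPostIso])).symm ≪≫
    (SheafOfModules.pushforwardComp _ _).symm

variable [(SheafOfModules.pushforward.{w + 1} φ).IsRightAdjoint]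

/-- Restriction of a pullback to the image slice is left adjoint to the two direct images. -/
noncomputable def pullOverAdj :
    SheafOfModules.pullback.{w + 1} φ ⋙ SheafOfModules.overFunctor.{w + 1} R (F.obj E) ⊣
      SheafOfModules.pushforward.{w + 1} (postRing E F φ) ⋙ SheafOfModules.pushforward.{w + 1} (starRing S E) :=
  ((SheafOfModules.pullbackPushforwardAdjunction φ).comp (overAdj R (F.obj E))).ofNatIsoRight (pushIso E F φ).symm

/-- The universal property of a pullback restricted to the image slice. -/
noncomputable def homEquiv (M : SheafOfModules.{w + 1} S) (N : SheafOfModules.{w + 1} (R.over (F.obj E))) :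
    (((SheafOfModules.pullback.{w + 1} φ).obj M).over (F.obj E) ⟶ N) ≃
      (M.over E ⟶ (SheafOfModules.pushforward.{w + 1} (postRing E F φ)).obj N) :=
  ((pullOverAdj E F φ).homEquiv M N).trans ((overAdj S E).homEquiv M _).symm

theorem homEquiv_comp (M : SheafOfModules.{w + 1} S) {N N' : SheafOfModules.{w + 1} (R.over (F.obj E))}
    (h : ((SheafOfModules.pullback.{w + 1} φ).obj M).over (F.obj E) ⟶ N) (k : N ⟶ N') :
    homEquiv E F φ M N' (h ≫ k) =
      homEquiv E F φ M N h ≫ (SheafOfModules.pushforward.{w + 1} (postRing E F φ)).map k := by
  refine ((overAdj S E).homEquiv M _).injective ?_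
  rw [Adjunction.homEquiv_naturality_right]
  simp only [homEquiv, Equiv.trans_apply]
  exact ((Equiv.apply_symm_apply _ _).trans ((pullOverAdj E F φ).homEquiv_naturality_right h k)).trans
    (congrArg (fun z => z ≫ _) (Equiv.apply_symm_apply _ _).symm)

theorem final_post : (Over.post (X := E) F).Final := by
  constructor
  intro d
  let hT := Over.mkIdTerminal (X := E)
  let hT' : IsTerminal ((Over.post (X := E) F).obj (Over.mk (𝟙 E))) :=
    Over.mkIdTerminal.ofIso (Over.isoMk (Iso.refl (F.obj E)) (by simp))
  let top : StructuredArrow d (Over.post (X := E) F) := StructuredArrow.mk (hT'.from d)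
  haveI : Nonempty (StructuredArrow d (Over.post (X := E) F)) := ⟨top⟩
  refine zigzag_isConnected fun j j' => ?_
  exact (Zigzag.of_hom (StructuredArrow.homMk (f' := top) (hT.from j.right) (hT'.hom_ext _ _))).trans
    (Zigzag.of_inv (StructuredArrow.homMk (f' := top) (hT.from j'.right) (hT'.hom_ext _ _)))

variable [HasSheafify (J.over E) AddCommGrpCat.{w + 1}] [(J.over E).WEqualsLocallyBijective AddCommGrpCat.{w + 1}]
  [HasSheafify (K.over (F.obj E)) AddCommGrpCat.{w + 1}]
  [(K.over (F.obj E)).WEqualsLocallyBijective AddCommGrpCat.{w + 1}]

open SheafOfModules in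
/-- The image of a map between free modules. -/
noncomputable def theta (I : Type (w + 1)) :
    free (R := S.over E) I ⟶ (SheafOfModules.pushforward.{w + 1} (postRing E F φ)).obj (free (R := R.over (F.obj E)) I) :=
  mapFree _ I (unitToPushforwardObjUnit (postRing E F φ))

open SheafOfModules in
theorem theta_bijective (I : Type (w + 1)) (N : SheafOfModules.{w + 1} (R.over (F.obj E))) :
    Function.Bijective (fun k : free (R := R.over (F.obj E)) I ⟶ N =>
      theta E F φ I ≫ (SheafOfModules.pushforward.{w + 1} (postRing E F φ)).map k) := by
  haveI := final_post E F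
  let p := Equiv.ofBijective _ (bijective_pushforwardSections (postRing E F φ) N)
  let e : (free (R := R.over (F.obj E)) I ⟶ N) ≃
      (free (R := S.over E) I ⟶ (SheafOfModules.pushforward.{w + 1} (postRing E F φ)).obj N) :=
    N.freeHomEquiv.trans ((Equiv.piCongrRight fun _ : I => p).trans (freeHomEquiv _).symm)
  have he : ∀ k, e k = theta E F φ I ≫ (SheafOfModules.pushforward.{w + 1} (postRing E F φ)).map k := fun k => by
    apply (freeHomEquiv _).injective
    funext i
    show ((SheafOfModules.pushforward.{w + 1} (postRing E F φ)).obj N).freeHomEquiv ((freeHomEquiv _).symm _) i = _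
    rw [Equiv.apply_symm_apply]
    show pushforwardSections (postRing E F φ) (N.unitHomEquiv (ιFree i ≫ k)) =
      SheafOfModules.unitHomEquiv _ (ιFree i ≫ theta E F φ I ≫ _)
    rw [pushforwardSections_unitHomEquiv, theta, ιFree_mapFree_assoc, Functor.map_comp]
  rw [show (fun k : free (R := R.over (F.obj E)) I ⟶ N =>
      theta E F φ I ≫ (SheafOfModules.pushforward.{w + 1} (postRing E F φ)).map k) = e from funext fun k => (he k).symm]
  exact e.bijective

open SheafOfModules in
/-- A presentation on a slice gives one of the pullback on the image slice. -/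
noncomputable def presentation {M : SheafOfModules.{w + 1} S} (P : (M.over E).Presentation) :
    (((SheafOfModules.pullback.{w + 1} φ).obj M).over (F.obj E)).Presentation :=
  let T := SheafOfModules.pushforward.{w + 1} (postRing E F φ)
  haveI : T.Additive := { }
  let u := (freeHomEquiv _).symm P.relations.s ≫ kernel.ι P.generators.π
  let u' : free (R := R.over (F.obj E)) P.relations.I ⟶ free P.generators.I :=
    (Equiv.ofBijective _ (theta_bijective E F φ P.relations.I _)).symm (u ≫ theta E F φ P.generators.I)
  have hu' : theta E F φ P.relations.I ≫ T.map u' = u ≫ theta E F φ P.generators.I :=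
    (Equiv.ofBijective _ (theta_bijective E F φ P.relations.I _)).apply_symm_apply _
  have ha : u ≫ theta E F φ P.generators.I ≫ T.map (cokernel.π u') = 0 := by
    rw [← Category.assoc, ← hu', Category.assoc, ← T.map_comp, cokernel.condition]
    exact (congrArg (_ ≫ ·) (Functor.map_zero T _ _)).trans comp_zero
  let a : M.over E ⟶ T.obj (cokernel u') := P.isColimit.desc (CokernelCofork.ofπ _ ha)
  have hπa : P.generators.π ≫ a = theta E F φ P.generators.I ≫ T.map (cokernel.π u') :=
    P.isColimit.fac (CokernelCofork.ofπ _ ha) WalkingParallelPair.one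
  let L := ((SheafOfModules.pullback.{w + 1} φ).obj M).over (F.obj E)
  let k₁ : L ⟶ cokernel u' := (homEquiv E F φ M (cokernel u')).symm a
  let c : free P.generators.I ⟶ L :=
    (Equiv.ofBijective _ (theta_bijective E F φ P.generators.I L)).symm (P.generators.π ≫ homEquiv E F φ M L (𝟙 L))
  have hc : theta E F φ P.generators.I ≫ T.map c = P.generators.π ≫ homEquiv E F φ M L (𝟙 L) :=
    (Equiv.ofBijective _ (theta_bijective E F φ P.generators.I L)).apply_symm_apply _
  have hcond : u ≫ P.generators.π = 0 := by
    simp only [u]
    rw [Category.assoc, kernel.condition, comp_zero]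
  have huc : u' ≫ c = 0 := by
    refine (theta_bijective E F φ P.relations.I L).1 ?_
    show theta E F φ P.relations.I ≫ T.map (u' ≫ c) = theta E F φ P.relations.I ≫ T.map 0
    rw [Functor.map_zero, comp_zero, T.map_comp, ← Category.assoc, hu', Category.assoc, hc, ← Category.assoc, hcond,
      zero_comp]
  let k₂ : cokernel u' ⟶ L := cokernel.desc u' c huc
  have hinv₁ : k₁ ≫ k₂ = 𝟙 L := by
    refine (homEquiv E F φ M L).injective ?_
    rw [homEquiv_comp, Equiv.apply_symm_apply]
    refine Cofork.IsColimit.hom_ext P.isColimit ?_
    show P.generators.π ≫ a ≫ _ = P.generators.π ≫ _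
    rw [← Category.assoc, hπa, Category.assoc, ← T.map_comp, cokernel.π_desc, hc]
  have hinv₂ : k₂ ≫ k₁ = 𝟙 (cokernel u') := by
    refine coequalizer.hom_ext ((theta_bijective E F φ P.generators.I _).1 ?_)
    show theta E F φ P.generators.I ≫ T.map (cokernel.π u' ≫ k₂ ≫ k₁) =
      theta E F φ P.generators.I ≫ T.map (cokernel.π u' ≫ 𝟙 _)
    rw [cokernel.π_desc_assoc, Category.comp_id, T.map_comp, ← Category.assoc, hc, Category.assoc, ← hπa,
      ← homEquiv_comp, Category.id_comp, Equiv.apply_symm_apply]
  haveI : IsIso k₂ := ⟨k₁, hinv₂, hinv₁⟩
  (presentationOfIsCokernelFree u' (cokernel.π u') (cokernel.condition u') (cokernelIsCokernel u')).ofIsIso k₂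

end Groth.Agent.QCart.PullQC
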