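import Mathlib.Algebra.Category.ModuleCat.Presheaf
import Mathlib.Algebra.Category.Ring.Colimits
import Mathlib.CategoryTheory.Sites.Grothendieck
import Mathlib.RingTheory.IsTensorProduct
import Mathlib.RingTheory.RingHom.Flat
import Mathlib.RingTheory.TensorProduct.Pi

/-!
# Sections of a presheaf of modules over a morphism, and the base change property

For a presheaf of commutative rings `O` and `g : Z ⟶ E`, the ring `O(Z)` is an `O(E)`-algebra and
the sections over `Z` of a presheaf of modules form an `O(E)`-module.  `Cart M g` says that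
`M(Z) = O(Z) ⊗ M(E)`.
-/

universe w v₁ u₁

set_option autoImplicit false
set_option linter.style.haveILetI false
set_option backward.isDefEq.respectTransparency false
set_option backward.isDefEq.respectTransparency.types false

open CategoryTheory Opposite TensorProduct

namespace Groth.Agent.QCart

variable {C : Type u₁} [Category.{v₁} C]

/-- The presheaf of rings underlying a presheaf of commutative rings. -/
abbrev RR (O : Cᵒᵖ ⥤ CommRingCat.{w}) : Cᵒᵖ ⥤ RingCat.{w} := O ⋙ forget₂ CommRingCat.{w} RingCat.{w}

variable (O : Cᵒᵖ ⥤ CommRingCat.{w})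

/-- Ring of sections over a morphism. -/
@[reducible, nolint unusedArguments]
def Rg' {E Z : C} (_g : Z ⟶ E) : Type w := O.obj (op Z)

/-- Ring of sections over a morphism, as an algebra over the sections over the target. -/
def Rg {E Z : C} (g : Z ⟶ E) : Type w := Rg' O g

variable {O}
variable {E Z : C} (g : Z ⟶ E)

noncomputable instance instCommRingRg : CommRing (Rg O g) := inferInstanceAs (CommRing (O.obj (op Z)))

noncomputable instance instAlgebraRg : Algebra (O.obj (op E)) (Rg O g) :=
  RingHom.toAlgebra (S := Rg O g) (O.map g.op).hom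

theorem algebraMap_apply' (a : O.obj (op E)) : algebraMap (O.obj (op E)) (Rg O g) a = (O.map g.op).hom a := rfl

variable (M : PresheafOfModules.{w} (RR O))

/-- Sections over a morphism. -/
def Sec {E Z : C} (_g : Z ⟶ E) : Type w := M.obj (op Z)

noncomputable instance instAddCommGroupSec : AddCommGroup (Sec M g) :=
  inferInstanceAs (AddCommGroup (M.obj (op Z)))

noncomputable instance instModuleSec : Module (Rg O g) (Sec M g) :=
  inferInstanceAs (Module (↑((RR O).obj (op Z))) (M.obj (op Z)))

noncomputable instance instModuleBaseSec : Module (O.obj (op E)) (Sec M g) :=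
  Module.compHom (Sec M g) (algebraMap (O.obj (op E)) (Rg O g))

instance instTowerSec : IsScalarTower (O.obj (op E)) (Rg O g) (Sec M g) where
  smul_assoc a b x := by
    change (a • b) • x = algebraMap (O.obj (op E)) (Rg O g) a • (b • x)
    rw [Algebra.smul_def, mul_smul]

/-- Sections over an object, as a module over its ring. -/
abbrev SecO (E : C) : Type w := M.obj (op E)

noncomputable instance instModuleSecO : Module (O.obj (op E)) (M.obj (op E)) :=
  inferInstanceAs (Module (↑((RR O).obj (op E))) (M.obj (op E)))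

/-- Regard a section as a section over a morphism. -/
def toSec : M.obj (op Z) → Sec M g := id

theorem toSec_def (x : M.obj (op Z)) : toSec g M x = x := rfl

omit g in
/-- Restriction of sections. -/
noncomputable def sres {E Z : C} (f : Z ⟶ E) : M.obj (op E) →+ M.obj (op Z) :=
  AddMonoidHom.mk' (fun x => M.map f.op x) fun x y => map_add (M.map f.op).hom x y

omit g in
theorem sres_smul {E Z : C} (f : Z ⟶ E) (a : O.obj (op E)) (x : M.obj (op E)) :
    sres M f (a • x) = (O.map f.op).hom a • sres M f x :=
  M.map_smul f.op a x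

omit g in
theorem sres_sres {E Z W : C} (g : Z ⟶ E) (k : W ⟶ Z) (x : M.obj (op E)) :
    sres M k (sres M g x) = sres M (k ≫ g) x :=
  (DFunLike.congr_fun (congrArg ModuleCat.Hom.hom (M.map_comp g.op k.op)) x).symm

omit g in
theorem sres_id (x : M.obj (op E)) : sres M (𝟙 E) x = x :=
  DFunLike.congr_fun (congrArg ModuleCat.Hom.hom (M.map_id (op E))) x

/-- Restriction along a morphism, as a linear map. -/
noncomputable def res : M.obj (op E) →ₗ[O.obj (op E)] Sec M g where
  toFun x := toSec g M (sres M g x)
  map_add' x y := map_add (sres M g) x y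
  map_smul' a x := sres_smul M g a x

/-- Restriction between sections over morphisms to a common object. -/
noncomputable def resOver {Z' : C} (h : Z' ⟶ E) (k : Z' ⟶ Z) (hk : k ≫ g = h) :
    Sec M g →ₗ[O.obj (op E)] Sec M h where
  toFun x := toSec h M (sres M k x)
  map_add' x y := map_add (sres M k) (show M.obj (op Z) from x) y
  map_smul' a x := by
    subst hk
    refine (sres_smul M k ((O.map g.op).hom a) (show M.obj (op Z) from x)).trans ?_
    change (O.map k.op).hom ((O.map g.op).hom a) • (sres M k x : M.obj (op Z')) =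
      (O.map (k ≫ g).op).hom a • (sres M k x : M.obj (op Z'))
    rw [op_comp, Functor.map_comp]
    rfl

theorem resOver_apply {Z' : C} (h : Z' ⟶ E) (k : Z' ⟶ Z) (hk : k ≫ g = h) (x : Sec M g) :
    resOver g M h k hk x = toSec h M (sres M k x) := rfl

theorem res_apply (x : M.obj (op E)) : res g M x = toSec g M (sres M g x) := rfl

theorem resOver_res {Z' : C} (h : Z' ⟶ E) (k : Z' ⟶ Z) (hk : k ≫ g = h) (x : M.obj (op E)) :
    resOver g M h k hk (res g M x) = res h M x := by
  subst hk
  exact sres_sres M g k x

/-- The comparison map. -/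
noncomputable def bcMap : Rg O g ⊗[O.obj (op E)] M.obj (op E) →ₗ[Rg O g] Sec M g :=
  (res g M).liftBaseChange (Rg O g)

theorem bcMap_tmul (b : Rg O g) (x : M.obj (op E)) : bcMap g M (b ⊗ₜ x) = b • res g M x :=
  LinearMap.liftBaseChange_tmul _ _ _ _

/-- `M(Z) = O(Z) ⊗ M(E)`. -/
def Cart : Prop := Function.Bijective (bcMap g M)

theorem cart_iff_isBaseChange : Cart g M ↔ IsBaseChange (Rg O g) (res g M) := by
  constructor
  · intro h
    exact IsBaseChange.of_equiv (LinearEquiv.ofBijective (bcMap g M) h) fun x =>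
      (bcMap_tmul g M 1 x).trans (one_smul _ _)
  · intro h
    have : bcMap g M = h.equiv.toLinearMap := by
      refine TensorProduct.AlgebraTensorModule.ext fun b x => ?_
      rw [bcMap_tmul]
      exact (h.equiv_tmul b x).symm
    rw [Cart, this]
    exact h.equiv.bijective

/-- A commutative square sent to a pushout square of rings. -/
structure IsRingSq {E Z Z' Q : C} (g : Z ⟶ E) (g' : Z' ⟶ E) (p : Q ⟶ Z) (q : Q ⟶ Z') : Prop where
  w : p ≫ g = q ≫ g'
  pushout : CategoryTheory.IsPushout (O.map g.op) (O.map g'.op) (O.map p.op) (O.map q.op)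

theorem IsRingSq.flip {E Z Z' Q : C} {g : Z ⟶ E} {g' : Z' ⟶ E} {p : Q ⟶ Z} {q : Q ⟶ Z'}
    (h : IsRingSq (O := O) g g' p q) : IsRingSq (O := O) g' g q p :=
  ⟨h.w.symm, h.pushout.flip⟩

/-- The comparison map for a square. -/
noncomputable def mixMap {Z' Q : C} (g' : Z' ⟶ E) (p : Q ⟶ Z) (q : Q ⟶ Z') (w : p ≫ g = q ≫ g') :
    Rg O g' ⊗[O.obj (op E)] Sec M g →+ M.obj (op Q) :=
  TensorProduct.liftAddHom
    (AddMonoidHom.mk' (fun b => AddMonoidHom.mk' (fun x => (O.map q.op).hom b • sres M p x)
        fun x y => (congrArg _ (map_add (sres M p) (show M.obj (op Z) from x) y)).trans (smul_add _ _ _))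
      fun a b => AddMonoidHom.ext fun x =>
        (congrArg (· • sres M p x) (map_add (O.map q.op).hom a b)).trans (add_smul _ _ _))
    fun a b x => by
      have e : (O.map p.op).hom ((O.map g.op).hom a) = (O.map q.op).hom ((O.map g'.op).hom a) := by
        rw [← CommRingCat.comp_apply, ← CommRingCat.comp_apply, ← O.map_comp, ← O.map_comp, ← op_comp, ← op_comp, w]
      show (O.map q.op).hom ((show O.obj (op Z') from (O.map g'.op).hom a) * (show O.obj (op Z') from b)) • sres M p x =
        (O.map q.op).hom b • sres M p ((O.map g.op).hom a • (show M.obj (op Z) from x))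
      refine Eq.trans ?_ (congrArg _ (sres_smul M p ((O.map g.op).hom a) (show M.obj (op Z) from x))).symm
      rw [map_mul, mul_comm, mul_smul]
      exact congrArg (fun c => (O.map q.op).hom b • c • sres M p x) e.symm

theorem mixMap_tmul {Z' Q : C} (g' : Z' ⟶ E) (p : Q ⟶ Z) (q : Q ⟶ Z') (w : p ≫ g = q ≫ g')
    (b : Rg O g') (x : Sec M g) : mixMap g M g' p q w (b ⊗ₜ x) = (O.map q.op).hom b • sres M p x := rfl

theorem mixMap_one_tmul {Z' Q : C} (g' : Z' ⟶ E) (p : Q ⟶ Z) (q : Q ⟶ Z') (w : p ≫ g = q ≫ g')
    (x : Sec M g) : mixMap g M g' p q w ((1 : Rg O g') ⊗ₜ x) = sres M p x := by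
  refine (mixMap_tmul g M g' p q w 1 x).trans ?_
  exact (congrArg (· • sres M p x) (map_one (O.map q.op).hom)).trans (one_smul _ _)

/-- Base change along a square of a cartesian restriction. -/
theorem bijective_mixMap {Z' Q : C} {g' : Z' ⟶ E} {p : Q ⟶ Z} {q : Q ⟶ Z'}
    (sq : IsRingSq (O := O) g g' p q) (hc : Cart p M) : Function.Bijective (mixMap g M g' p q sq.w) := by
  let A := O.obj (op E)
  letI : Algebra (Rg O g) (Rg O p) := (O.map p.op).hom.toAlgebra
  letI : Algebra (Rg O g') (Rg O p) := RingHom.toAlgebra (S := Rg O p) (O.map q.op).hom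
  letI : Algebra A (Rg O p) := RingHom.toAlgebra (S := Rg O p) ((O.map p.op).hom.comp (O.map g.op).hom)
  haveI : IsScalarTower A (Rg O g) (Rg O p) := IsScalarTower.of_algebraMap_eq fun _ => rfl
  haveI : IsScalarTower A (Rg O g') (Rg O p) := IsScalarTower.of_algebraMap_eq fun a => by
    show (O.map p.op).hom ((O.map g.op).hom a) = (O.map q.op).hom ((O.map g'.op).hom a)
    rw [← CommRingCat.comp_apply, ← CommRingCat.comp_apply, ← O.map_comp, ← O.map_comp, ← op_comp, ← op_comp, sq.w]
  haveI : Algebra.IsPushout A (Rg O g') (Rg O g) (Rg O p) :=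
    CommRingCat.isPushout_iff_isPushout.1 (show CategoryTheory.IsPushout
      (CommRingCat.ofHom (algebraMap A (Rg O g'))) (CommRingCat.ofHom (algebraMap A (Rg O g)))
      (CommRingCat.ofHom (algebraMap (Rg O g') (Rg O p))) (CommRingCat.ofHom (algebraMap (Rg O g) (Rg O p))) from
      sq.pushout.flip)
  let e := Algebra.IsPushout.cancelBaseChange A (Rg O g') (Rg O g) (Rg O p) (Sec M g)
  have key : ∀ y : Rg O g' ⊗[A] Sec M g, mixMap g M g' p q sq.w y =
      (show M.obj (op Q) from bcMap p M (e.symm y)) := fun y => by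
    induction y using TensorProduct.induction_on with
    | zero => rw [map_zero, map_zero]; exact (map_zero (bcMap p M)).symm
    | add a b ha hb =>
      rw [map_add, map_add, ha, hb]
      exact (map_add (bcMap p M) _ _).symm
    | tmul b x =>
      rw [mixMap_tmul, Algebra.IsPushout.cancelBaseChange_symm_tmul]
      exact (bcMap_tmul p M (algebraMap (Rg O g') (Rg O p) b) x).symm
  rw [show (mixMap g M g' p q sq.w : _ → _) = (fun z => (show M.obj (op Q) from bcMap p M z)) ∘ e.symm from funext key]
  exact hc.comp e.symm.bijective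

theorem cart_comp {W : C} (k : W ⟶ Z) (hg : Cart g M) (hk : Cart k M) : Cart (k ≫ g) M := by
  let A := O.obj (op E)
  letI : Algebra (Rg O g) (Rg O (k ≫ g)) := RingHom.toAlgebra (S := Rg O (k ≫ g)) (O.map k.op).hom
  haveI : IsScalarTower A (Rg O g) (Rg O (k ≫ g)) := IsScalarTower.of_algebraMap_eq fun a => by
    show (O.map (k ≫ g).op).hom a = (O.map k.op).hom ((O.map g.op).hom a)
    rw [op_comp, Functor.map_comp, CommRingCat.comp_apply]
  letI : Module (Rg O g) (Sec M (k ≫ g)) := Module.compHom _ (algebraMap (Rg O g) (Rg O (k ≫ g)))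
  haveI : IsScalarTower (Rg O g) (Rg O (k ≫ g)) (Sec M (k ≫ g)) := ⟨fun a b x => by
    show (a • b) • x = algebraMap (Rg O g) (Rg O (k ≫ g)) a • (b • x)
    rw [Algebra.smul_def, mul_smul]⟩
  haveI : IsScalarTower A (Rg O g) (Sec M (k ≫ g)) := IsScalarTower.of_algebraMap_smul fun a x => by
    show algebraMap (Rg O g) (Rg O (k ≫ g)) (algebraMap A (Rg O g) a) • x = _
    rw [← IsScalarTower.algebraMap_apply]
    rfl
  let h₂ : Sec M g →ₗ[Rg O g] Sec M (k ≫ g) :=
    { toFun := fun x => toSec _ M (sres M k x)
      map_add' := fun x y => map_add (sres M k) (show M.obj (op Z) from x) y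
      map_smul' := fun a x => sres_smul M k (show O.obj (op Z) from a) (show M.obj (op Z) from x) }
  have h₂' : IsBaseChange (Rg O (k ≫ g)) h₂ := (cart_iff_isBaseChange k M).1 hk
  have := ((cart_iff_isBaseChange g M).1 hg).comp h₂'
  refine (cart_iff_isBaseChange _ M).2 ?_
  convert this using 1
  exact LinearMap.ext fun x => (sres_sres M g k x).symm

end Groth.Agent.QCart
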