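import Groth.Agent.QCart.Local
import Mathlib.CategoryTheory.Sites.LocallySurjective

/-!
# Cartesian presheaves of modules and their sheafifications
-/

universe w v₁ u₁

set_option autoImplicit false
set_option linter.style.haveILetI false
set_option backward.isDefEq.respectTransparency false
set_option backward.isDefEq.respectTransparency.types false

open CategoryTheory Opposite TensorProduct

namespace Groth.Agent.QCart

variable {C : Type u₁} [Category.{v₁} C] {J : GrothendieckTopology C}

section Presheaf

variable {O : Cᵒᵖ ⥤ CommRingCat.{w}} {P Q : PresheafOfModules.{w} (RR O)} (φ : P ⟶ Q)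

theorem app_sres {E Z : C} (f : Z ⟶ E) (x : P.obj (op E)) :
    φ.app (op Z) (sres P f x) = sres Q f (φ.app (op E) x) :=
  PresheafOfModules.naturality_apply φ f.op x

theorem app_smul' {E : C} (a : O.obj (op E)) (x : P.obj (op E)) :
    φ.app (op E) (a • x) = a • φ.app (op E) x :=
  (φ.app (op E)).hom.map_smul a x

/-- The component of a morphism over an object, linear over the sections of the rings. -/
noncomputable def appO (E : C) : P.obj (op E) →ₗ[O.obj (op E)] Q.obj (op E) where
  toFun x := φ.app (op E) x
  map_add' x y := map_add (φ.app (op E)).hom x y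
  map_smul' a x := app_smul' φ a x

/-- The component of a morphism over a map. -/
noncomputable def appSec {E Z : C} (g : Z ⟶ E) : Sec P g →ₗ[Rg O g] Sec Q g where
  toFun x := toSec g Q (φ.app (op Z) x)
  map_add' x y := map_add (φ.app (op Z)).hom (show P.obj (op Z) from x) y
  map_smul' a x := app_smul' φ (show O.obj (op Z) from a) (show P.obj (op Z) from x)

theorem bcMap_natural {E Z : C} (g : Z ⟶ E) (z : Rg O g ⊗[O.obj (op E)] P.obj (op E)) :
    appSec φ g (bcMap g P z) = bcMap g Q ((appO φ E).lTensor (Rg O g) z) := by
  induction z using TensorProduct.induction_on with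
  | zero => simp only [map_zero]
  | add z z' hz hz' => simp only [map_add, hz, hz']
  | tmul b x =>
    rw [LinearMap.lTensor_tmul, bcMap_tmul, bcMap_tmul, map_smul]
    exact congrArg (fun y => b • toSec g Q y) (app_sres φ g x)

theorem cart_iff_of_bijective {E Z : C} (g : Z ⟶ E) (hE : Function.Bijective (φ.app (op E)))
    (hZ : Function.Bijective (φ.app (op Z))) : Cart g P ↔ Cart g Q := by
  have h1 : Function.Bijective ((appO φ E).lTensor (Rg O g)) :=
    (TensorProduct.congr (LinearEquiv.refl _ _) (LinearEquiv.ofBijective (appO φ E) hE)).bijective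
  have h2 : Function.Bijective (appSec φ g) := hZ
  have e : appSec φ g ∘ bcMap g P = bcMap g Q ∘ (appO φ E).lTensor (Rg O g) := funext (bcMap_natural φ g)
  rw [Cart, Cart, ← Function.Bijective.of_comp_iff (bcMap g Q) h1, ← e, Function.Bijective.of_comp_iff' h2]

theorem AffBasis.IsCart.of_bijective {b : AffBasis J O} (hP : b.IsCart P)
    (h : ∀ E : C, b.aff E → Function.Bijective (φ.app (op E))) : b.IsCart Q :=
  fun _ _ hE hE' g => (cart_iff_of_bijective φ g (h _ hE) (h _ hE')).1 (hP hE hE' g)

end Presheaf

variable [J.HasSheafCompose (forget₂ CommRingCat.{w} RingCat.{w})]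
  [J.HasSheafCompose (CategoryTheory.forget AddCommGrpCat.{w})] {R : Sheaf J CommRingCat.{w}}
  {b : AffBasis J R.obj} {P : PresheafOfModules.{w} (RR R.obj)} {M : SheafOfModules.{w} (RS R)}
  (φ : P ⟶ psh M)
  [Presheaf.IsLocallyInjective J ((PresheafOfModules.toPresheaf _).map φ)]
  [Presheaf.IsLocallySurjective J ((PresheafOfModules.toPresheaf _).map φ)]

/-- A cartesian presheaf has the same sections on affine objects as its sheafification. -/
theorem AffBasis.IsCart.bijective_app (hP : b.IsCart P) {E : C} (hE : b.aff E) :
    Function.Bijective (φ.app (op E)) := by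
  have inj : ∀ {E : C}, b.aff E → Function.Injective (φ.app (op E)) := fun {E} hE x y h => by
    obtain ⟨c, hc⟩ := b.cover hE _
      (Presheaf.equalizerSieve_mem J ((PresheafOfModules.toPresheaf _).map φ) (X := op E) x y h)
    exact hP.ext_of_res hE c x y hc
  refine ⟨inj hE, fun t => ?_⟩
  obtain ⟨c, hc⟩ := b.cover hE _
    (Presheaf.imageSieve_mem J ((PresheafOfModules.toPresheaf _).map φ) (U := op E) t)
  have hc' : ∀ i, ∃ s : P.obj (op (c.Z i)), φ.app (op (c.Z i)) s = sres (psh M) (c.m i) t := hc
  choose s hs using hc'
  obtain ⟨x, hx⟩ := hP.exists_glue hE c s fun W i j f g hW e => inj hW (by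
    refine (app_sres φ f (s i)).trans (Eq.trans ?_ (app_sres φ g (s j)).symm)
    rw [hs, hs, sres_sres, sres_sres, e])
  refine ⟨x, ext_of_ofArrows M c.mem _ _ fun i => ?_⟩
  rw [← hs i, ← hx i]
  exact (app_sres φ (c.m i) x).symm

include φ in
/-- The sheafification of a cartesian presheaf is cartesian. -/
theorem AffBasis.IsCart.of_locallyBijective (hP : b.IsCart P) : b.IsCart (psh M) :=
  hP.of_bijective φ fun _ hE => hP.bijective_app φ hE

end Groth.Agent.QCart
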